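import Cfsg.Agent.Lib.Helper25.FpfNilpotent
import Cfsg.Agent.Lib.Helper1.Fitting
import Cfsg.Agent.Lib.Helper1.MinimalNormal
import Cfsg.Agent.Lib.Helper1.Hall
import Cfsg.Agent.Lib.Lead.Cores
import Cfsg.Agent.S0016
import Cfsg.Prelude.Def_OddOrderLocal
import Cfsg.Agent.Lib.Helper11.Basic2
import Cfsg.Agent.S0041
import Cfsg.Agent.Lib.Helper1.FrobComplement

/-!
# Solvable CN-groups: tools for the trichotomy (helper25)
-/

set_option autoImplicit false
open Cfsg

namespace Cfsg.Agent.Lib.Helper25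

/-- If all abelian subgroups are cyclic, the Sylow subgroups are cyclic or generalized quaternion. -/
theorem sylow_cyclic_or_quaternion_of_key {E : Type*} [Group E] [Finite E]
    (key0 : ∀ B : Subgroup E, IsMulCommutative B → IsCyclic B) (p : ℕ) [Fact p.Prime]
    (P : Sylow p E) :
    IsCyclic P ∨ (p = 2 ∧ ∃ n : ℕ, Nonempty (P ≃* QuaternionGroup (2 ^ n))) := by
  have key : ∀ B : Subgroup (P : Subgroup E), IsMulCommutative B → IsCyclic B := by
    intro B hB
    have h1 : IsCyclic (B.map (P : Subgroup E).subtype : Subgroup E) := key0 _ inferInstance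
    let e1 := B.equivMapOfInjective (P : Subgroup E).subtype (Subgroup.subtype_injective _)
    exact isCyclic_of_injective e1.toMonoidHom e1.injective
  have huniq : ∀ A B : Subgroup (P : Subgroup E), Nat.card A = p → Nat.card B = p → A = B := by
    have hp : p.Prime := Fact.out
    intro A₀ B₀ hA₀ hB₀
    have hnt : Nontrivial (P : Subgroup E) := by
      by_contra h
      rw [not_nontrivial_iff_subsingleton] at h
      have : Nat.card A₀ = 1 := Nat.card_eq_one_iff_unique.2 ⟨inferInstance, ⟨1⟩⟩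
      rw [hA₀] at this
      exact hp.one_lt.ne' this
    have hcn := P.isPGroup'.center_nontrivial
    have hdvd : p ∣ Nat.card (Subgroup.center (P : Subgroup E)) := by
      obtain ⟨k, hk⟩ := IsPGroup.iff_card.1
        (P.isPGroup'.to_subgroup (Subgroup.center (P : Subgroup E)))
      rw [hk]
      apply dvd_pow_self
      rintro rfl
      rw [pow_zero] at hk
      exact (Finite.one_lt_card_iff_nontrivial.2 hcn).ne' hk
    obtain ⟨z, hz⟩ := exists_prime_orderOf_dvd_card' (G := Subgroup.center (P : Subgroup E)) p hdvd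
    have hz' : orderOf (z : (P : Subgroup E)) = p := by rw [Subgroup.orderOf_coe, hz]
    have hZcard : Nat.card (Subgroup.zpowers (z : (P : Subgroup E))) = p := by
      rw [Nat.card_zpowers, hz']
    have claim : ∀ A : Subgroup (P : Subgroup E), Nat.card A = p →
        A = Subgroup.zpowers (z : (P : Subgroup E)) := by
      intro A hA
      have hAc : IsCyclic A := isCyclic_of_prime_card hA
      have hEab : IsMulCommutative (A ⊔ Subgroup.zpowers (z : (P : Subgroup E)) : Subgroup _) := by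
        rw [Subgroup.sup_eq_closure]
        apply Subgroup.isMulCommutative_closure
        have hzc : ∀ w ∈ Subgroup.zpowers (z : (P : Subgroup E)), ∀ y, y * w = w * y := by
          intro w hw y
          have : w ∈ Subgroup.center (P : Subgroup E) :=
            (Subgroup.zpowers_le.2 z.2) hw
          exact (Subgroup.mem_center_iff.1 this) y
        rintro a (ha | ha) b (hb | hb)
        · have hAm : IsMulCommutative A := IsCyclic.isMulCommutative
          have := mul_comm' (⟨a, ha⟩ : A) ⟨b, hb⟩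
          exact congrArg Subtype.val this
        · exact hzc b hb a
        · exact (hzc a ha b).symm
        · exact hzc b hb a
      have hEc := key _ hEab
      have h1 : A.subgroupOf (A ⊔ Subgroup.zpowers (z : (P : Subgroup E)))
          = (Subgroup.zpowers (z : (P : Subgroup E))).subgroupOf
            (A ⊔ Subgroup.zpowers (z : (P : Subgroup E))) := by
        apply Cfsg.Agent.Lib.Helper1.FrobComplement.eq_of_card_eq_of_isCyclic
        rw [Cfsg.Agent.Lib.Helper1.card_subgroupOf le_sup_left,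
          Cfsg.Agent.Lib.Helper1.card_subgroupOf le_sup_right, hA, hZcard]
      rw [Subgroup.subgroupOf_inj, inf_of_le_left le_sup_left, inf_of_le_left le_sup_right] at h1
      exact h1
    rw [claim A₀ hA₀, claim B₀ hB₀]
  exact Cfsg.Agent.S0016.result p P.isPGroup' huniq


section caseB

variable {G : Type*} [Group G] [Finite G]

omit [Finite G] in
theorem orderOf_of_mem_isPGroup {p : ℕ} [Fact p.Prime] {H : Subgroup G} (hH : IsPGroup p H) {h : G}
    (hh : h ∈ H) : ∃ k : ℕ, orderOf h = p ^ k := by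
  obtain ⟨k, hk⟩ := IsPGroup.iff_orderOf.1 hH ⟨h, hh⟩
  exact ⟨k, by rw [← hk, Subgroup.orderOf_mk]⟩

omit [Finite G] in
theorem eq_one_of_orderOf_pow_coprime {p : ℕ} {x : G} (h1 : ∃ k : ℕ, orderOf x = p ^ k)
    (h2 : (orderOf x).Coprime p) : x = 1 := by
  obtain ⟨k, hk⟩ := h1
  rw [← orderOf_eq_one_iff]
  have h3 : (orderOf x).Coprime (p ^ k) := Nat.Coprime.pow_right k h2
  rw [← hk] at h3
  exact (Nat.coprime_self _).1 h3

/-- In a CN-group with `C_G(H) ≤ H` for a nontrivial `p`-subgroup `H`, a `p'`-element commuting with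
a nonidentity element of `H` is trivial. -/
theorem pPrime_fpf (hCN : IsCNGroup G) (p : ℕ) [Fact p.Prime] (H : Subgroup G) (hHp : IsPGroup p H)
    (hCH : Subgroup.centralizer (H : Set G) ≤ H)
    {x h : G} (hx : (orderOf x).Coprime p) (hh : h ∈ H) (hh1 : h ≠ 1) (hxh : x * h = h * x) :
    x = 1 := by
  have hHnil : Group.IsNilpotent H := hHp.isNilpotent
  have hdvd : p ∣ Nat.card H := by
    obtain ⟨n, hn⟩ := IsPGroup.iff_card.1 hHp
    rw [hn]
    apply dvd_pow_self
    rintro rfl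
    rw [pow_zero] at hn
    have := (Subgroup.card_eq_one.1 hn)
    rw [this] at hh
    exact hh1 (Subgroup.mem_bot.1 hh)
  obtain ⟨z, hzH, hz1, ⟨k, hk⟩, hzc⟩ := exists_central_pElement hHnil p hdvd
  have h1 : x * z = z * x := by
    apply commute_of_coprime_orderOf_of_mem (hCN h hh1)
    · exact Subgroup.mem_centralizer_singleton_iff.2 hxh
    · exact Subgroup.mem_centralizer_singleton_iff.2 (hzc h hh).symm
    · rw [hk]; exact Nat.Coprime.pow_right k hx
  have h2 : x ∈ Subgroup.centralizer (H : Set G) := by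
    rw [Subgroup.mem_centralizer_iff]
    intro h' hh'
    obtain ⟨j, hj⟩ := orderOf_of_mem_isPGroup hHp hh'
    symm
    apply commute_of_coprime_orderOf_of_mem (hCN z hz1)
    · exact Subgroup.mem_centralizer_singleton_iff.2 h1
    · exact Subgroup.mem_centralizer_singleton_iff.2 (hzc h' hh')
    · rw [hj]; exact Nat.Coprime.pow_right j hx
  exact eq_one_of_orderOf_pow_coprime (orderOf_of_mem_isPGroup hHp (hCH h2)) hx

/-- In the same situation (with `H` normal), nontrivial `p`-elements never commute with nontrivial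
`p'`-elements. -/
theorem no_commute (hCN : IsCNGroup G) (p : ℕ) [Fact p.Prime] (H : Subgroup G) [hHn : H.Normal]
    (hHp : IsPGroup p H) (hH1 : H ≠ ⊥) (hCH : Subgroup.centralizer (H : Set G) ≤ H)
    {x y : G} (hx : ∃ k : ℕ, orderOf x = p ^ k) (hx1 : x ≠ 1) (hy : (orderOf y).Coprime p)
    (hxy : x * y = y * x) : y = 1 := by
  obtain ⟨k, hk⟩ := hx
  obtain ⟨z, hzH, hz1, hxz⟩ := exists_fixed_of_pElement H hHp hH1 x k hk
    (fun d hd => hHn.conj_mem d hd x)
  obtain ⟨j, hj⟩ := orderOf_of_mem_isPGroup hHp hzH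
  have h1 : y * z = z * y := by
    apply commute_of_coprime_orderOf_of_mem (hCN x hx1)
    · exact Subgroup.mem_centralizer_singleton_iff.2 hxy.symm
    · exact Subgroup.mem_centralizer_singleton_iff.2 hxz.symm
    · rw [hj]; exact Nat.Coprime.pow_right j hy
  exact pPrime_fpf hCN p H hHp hCH hy hzH hz1 h1

/-- A fixed-point-free involution inverts. -/
theorem fpf_involution_inverts (H : Subgroup G) [hHn : H.Normal] (s : G) (hs : s * s = 1)
    (hfpf : ∀ h ∈ H, s * h = h * s → h = 1) : ∀ h ∈ H, s * h * s⁻¹ = h⁻¹ := by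
  let f : H → H := fun h => ⟨(h : G)⁻¹ * (s * h * s⁻¹), H.mul_mem (H.inv_mem h.2) (hHn.conj_mem _ h.2 s)⟩
  have hinj : Function.Injective f := by
    intro a b hab
    have h1 : (a : G)⁻¹ * (s * a * s⁻¹) = (b : G)⁻¹ * (s * b * s⁻¹) := congrArg Subtype.val hab
    have h2 : s * ((b : G) * (a : G)⁻¹) = ((b : G) * (a : G)⁻¹) * s := by
      have h3 : (b : G) * (a : G)⁻¹ * (s * a * s⁻¹) = s * b * s⁻¹ := by
        rw [mul_assoc, h1]; group
      calc s * ((b : G) * (a : G)⁻¹) = (s * b * s⁻¹) * (s * (a : G)⁻¹) := by group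
        _ = (b : G) * (a : G)⁻¹ * (s * a * s⁻¹) * (s * (a : G)⁻¹) := by rw [h3]
        _ = ((b : G) * (a : G)⁻¹) * s := by group
    have h4 := hfpf _ (H.mul_mem b.2 (H.inv_mem a.2)) h2
    apply Subtype.ext
    exact (mul_inv_eq_one.1 h4).symm
  have hsurj : Function.Surjective f := Finite.injective_iff_surjective.1 hinj
  intro h hh
  obtain ⟨a, ha⟩ := hsurj ⟨h, hh⟩
  have ha' : (a : G)⁻¹ * (s * a * s⁻¹) = h := congrArg Subtype.val ha
  have hs' : s⁻¹ = s := inv_eq_of_mul_eq_one_left hs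
  rw [← ha', hs']
  have h5 : s * ((a : G)⁻¹ * (s * a * s)) * s = s * (a : G)⁻¹ * s * a * (s * s) := by
    group
  rw [h5, hs]
  simp only [mul_one, mul_inv_rev, inv_inv, hs', mul_assoc]


/-- The three-step structure from the data `H = O_p(G)` self-centralizing, not Sylow, and a
`p'`-element `t ≠ 1` with `G = H N_G(⟨t⟩)`. -/
theorem threeStep_of_data (hCN : IsCNGroup G) (p : ℕ) [hp : Fact p.Prime] (hH1 : pCore p G ≠ ⊥)
    (hCH : Subgroup.centralizer (pCore p G : Set G) ≤ pCore p G)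
    (g₀ : G) (hg₀ : ∃ k : ℕ, orderOf g₀ = p ^ k) (hg₀H : g₀ ∉ pCore p G)
    (t : G) (ht1 : t ≠ 1) (htp : (orderOf t).Coprime p)
    (hfrat : pCore p G ⊔ Subgroup.normalizer (Subgroup.zpowers t : Set G) = ⊤) :
    IsThreeStepGroup p G := by
  obtain ⟨H, hHdef⟩ : ∃ H : Subgroup G, H = pCore p G := ⟨_, rfl⟩
  rw [← hHdef] at hH1 hCH hg₀H hfrat
  have hHn : H.Normal := by rw [hHdef]; infer_instance
  have hHp : IsPGroup p H := by rw [hHdef]; exact Cfsg.Agent.Lib.Lead.pCore_isPGroup p G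
  obtain ⟨G₁, hG₁⟩ : ∃ G₁ : Subgroup G, G₁ = Subgroup.normalizer (Subgroup.zpowers t : Set G) :=
    ⟨_, rfl⟩
  rw [← hG₁] at hfrat
  obtain ⟨A, hA⟩ : ∃ A : Subgroup G, A = Subgroup.centralizer ({t} : Set G) := ⟨_, rfl⟩
  have hfpf := @pPrime_fpf G _ _ hCN p _ H hHp hCH
  have hnc := @no_commute G _ _ hCN p _ H hHn hHp hH1 hCH
  have memA : ∀ a : G, a ∈ A ↔ a * t = t * a := by
    intro a; rw [hA]; exact Subgroup.mem_centralizer_singleton_iff
  have conjG₁ : ∀ g ∈ G₁, g * t * g⁻¹ ∈ Subgroup.zpowers t := by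
    intro g hg
    rw [hG₁] at hg
    exact (Subgroup.mem_normalizer_iff.1 hg t).1 (Subgroup.mem_zpowers t)
  -- (a)
  have ha : ∀ h ∈ H, h ∈ G₁ → h = 1 := by
    intro h hh hhG
    by_contra hne
    have h1 : h * t * h⁻¹ * t⁻¹ ∈ Subgroup.zpowers t :=
      Subgroup.mul_mem _ (conjG₁ h hhG) (Subgroup.inv_mem _ (Subgroup.mem_zpowers t))
    have h2 : h * t * h⁻¹ * t⁻¹ ∈ H := by
      have : h * t * h⁻¹ * t⁻¹ = h * (t * h⁻¹ * t⁻¹) := by group
      rw [this]
      exact H.mul_mem hh (hHn.conj_mem _ (H.inv_mem hh) t)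
    have h3 : h * t * h⁻¹ * t⁻¹ = 1 := by
      apply eq_one_of_orderOf_pow_coprime (orderOf_of_mem_isPGroup hHp h2)
      exact Nat.Coprime.coprime_dvd_left (orderOf_dvd_of_mem_zpowers h1) htp
    have h4 : t * h = h * t := by
      have : h * t = (h * t * h⁻¹ * t⁻¹) * (t * h) := by group
      rw [this, h3, one_mul]
    exact ht1 (hfpf htp hh hne h4)
  -- (b)
  have hb : ∀ g : G, ∃ h ∈ H, ∃ g₁ ∈ G₁, g = h * g₁ := by
    intro g
    have hg : g ∈ ((H ⊔ G₁ : Subgroup G) : Set G) := by rw [hfrat]; trivial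
    rw [Subgroup.normal_mul] at hg
    obtain ⟨h, hh, g₁, hg₁, rfl⟩ := Set.mem_mul.1 hg
    exact ⟨h, hh, g₁, hg₁, rfl⟩
  -- (c)
  have hc : A ≤ G₁ := by
    intro a haA
    rw [hG₁]
    apply Cfsg.Agent.Lib.Helper11.mem_normalizer_of_conj_mem
    intro n hn
    obtain ⟨k, rfl⟩ := Subgroup.mem_zpowers_iff.1 hn
    have h1 : Commute a (t ^ k) := Commute.zpow_right ((memA a).1 haA) k
    rw [h1.eq, mul_inv_cancel_right]
    exact hn
  -- (d)
  have hd : ∀ a ∈ A, (orderOf a).Coprime p := by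
    intro a haA
    obtain ⟨u, hu, v, hv, huv, huo, hvo⟩ := exists_pPart_mul_pPrimePart p hp.out a
    have hu1 : u = 1 := by
      by_contra hne
      obtain ⟨k, rfl⟩ := Subgroup.mem_zpowers_iff.1 hu
      have h1 : Commute (a ^ k) t := Commute.zpow_left ((memA a).1 haA) k
      exact ht1 (hnc huo hne htp h1.eq)
    rw [huv, hu1, one_mul]
    exact hvo
  -- (e)
  have he : ∀ g ∈ G₁, ∀ a ∈ A, g * a * g⁻¹ ∈ A := by
    intro g hg a haA
    rw [memA]
    have h1 := conjG₁ g⁻¹ (G₁.inv_mem hg)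
    rw [inv_inv] at h1
    obtain ⟨k, hk⟩ := Subgroup.mem_zpowers_iff.1 h1
    have h2 : Commute a (t ^ k) := Commute.zpow_right ((memA a).1 haA) k
    calc g * a * g⁻¹ * t = g * (a * (g⁻¹ * t * g)) * g⁻¹ := by group
      _ = g * ((g⁻¹ * t * g) * a) * g⁻¹ := by rw [← hk, h2.eq]
      _ = t * (g * a * g⁻¹) := by group
  -- (f)
  have hf : ∀ x ∈ G₁, ∀ y ∈ G₁, x * y * x⁻¹ * y⁻¹ ∈ A := by
    have hf0 : ∀ x ∈ G₁, ∀ y ∈ G₁, (y * x)⁻¹ * (x * y) ∈ A := by
      intro x hx y hy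
      rw [memA]
      obtain ⟨i, hi⟩ := Subgroup.mem_zpowers_iff.1 (conjG₁ x hx)
      obtain ⟨j, hj⟩ := Subgroup.mem_zpowers_iff.1 (conjG₁ y hy)
      have h1 : (x * y) * t * (x * y)⁻¹ = (y * x) * t * (y * x)⁻¹ := by
        have e1 : (x * y) * t * (x * y)⁻¹ = x * (y * t * y⁻¹) * x⁻¹ := by group
        have e2 : (y * x) * t * (y * x)⁻¹ = y * (x * t * x⁻¹) * y⁻¹ := by group
        have e3 : ∀ (g : G) (n : ℤ), g * t ^ n * g⁻¹ = (g * t * g⁻¹) ^ n := by
          intro g n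
          exact (conj_zpow).symm
        rw [e1, e2, ← hi, ← hj, e3, e3, ← hi, ← hj, ← zpow_mul, ← zpow_mul, mul_comm]
      calc (y * x)⁻¹ * (x * y) * t = (y * x)⁻¹ * ((x * y) * t * (x * y)⁻¹) * (x * y) := by group
        _ = (y * x)⁻¹ * ((y * x) * t * (y * x)⁻¹) * (x * y) := by rw [h1]
        _ = t * ((y * x)⁻¹ * (x * y)) := by group
    intro x hx y hy
    have := hf0 x⁻¹ (G₁.inv_mem hx) y⁻¹ (G₁.inv_mem hy)
    have e : (y⁻¹ * x⁻¹)⁻¹ * (x⁻¹ * y⁻¹) = x * y * x⁻¹ * y⁻¹ := by group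
    rwa [e] at this
  -- (h)
  obtain ⟨x₀, hx₀G, hx₀1, j₀, hx₀o⟩ : ∃ x₀ ∈ G₁, x₀ ≠ 1 ∧ ∃ j : ℕ, orderOf x₀ = p ^ j := by
    obtain ⟨h, hh, g₁, hg₁, hg⟩ := hb g₀
    obtain ⟨u, hu, v, hv, huv, ⟨j, hj⟩, hvo⟩ := exists_pPart_mul_pPrimePart p hp.out g₁
    refine ⟨u, (Subgroup.zpowers_le.2 hg₁) hu, ?_, j, hj⟩
    intro hu1
    rw [hu1, one_mul] at huv
    obtain ⟨k, hk⟩ := hg₀
    have h1 := pow_mul_inv_pow_mem H g₁ (fun x hx => hHn.conj_mem x hx g₁) (p ^ k) h hh
    rw [← hg, ← hk, pow_orderOf_eq_one, one_mul] at h1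
    have h2 : g₁ ^ orderOf g₀ ∈ H := by simpa using H.inv_mem h1
    have h3 := ha _ h2 (G₁.pow_mem hg₁ _)
    have h4 : g₁ = 1 := by
      apply eq_one_of_orderOf_pow_coprime (p := p) _ (huv ▸ hvo)
      rw [hk] at h3
      exact (Nat.dvd_prime_pow hp.out).1 (orderOf_dvd_of_pow_eq_one h3) |>.imp fun _ h => h.2
    apply hg₀H
    rw [hg, h4, mul_one]
    exact hh
  have hcardA : (Nat.card A).Coprime p := by
    rw [Nat.coprime_comm, Nat.Prime.coprime_iff_not_dvd hp.out]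
    intro hdvd
    obtain ⟨a, hao⟩ := exists_prime_orderOf_dvd_card' (G := A) p hdvd
    have h1 := hd a a.2
    rw [Subgroup.orderOf_coe, hao] at h1
    exact hp.out.one_lt.ne' ((Nat.coprime_self p).1 h1)
  -- (g)
  have hg : ∀ y ∈ G₁, (orderOf y).Coprime p → y ∈ A := by
    intro y hy hyo
    have hT : ¬ p ∣ Nat.card ((fun a => a * y) '' (A : Set G)) := by
      rw [Nat.card_image_of_injective (mul_left_injective y)]
      intro hdvd
      exact hp.out.one_lt.ne' (Nat.eq_one_of_dvd_coprimes hcardA hdvd dvd_rfl)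
    obtain ⟨w, ⟨a, haA, rfl⟩, hw⟩ := exists_fixed_of_not_dvd ((fun a => a * y) '' (A : Set G)) p x₀ j₀
      hx₀o (by
        rintro _ ⟨a, haA, rfl⟩
        refine ⟨(x₀ * a * x₀⁻¹) * (x₀ * y * x₀⁻¹ * y⁻¹), A.mul_mem (he x₀ hx₀G a haA) (hf x₀ hx₀G y hy), ?_⟩
        simp only []
        group) hT
    simp only [] at hw
    obtain ⟨u, hu, v, hv, huv, ⟨k, hk⟩, hvo⟩ := exists_pPart_mul_pPrimePart p hp.out (a * y)
    have hv1 : v = 1 := by
      obtain ⟨m, rfl⟩ := Subgroup.mem_zpowers_iff.1 hv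
      have h1 : Commute x₀ ((a * y) ^ m) := Commute.zpow_right hw m
      exact hnc ⟨j₀, hx₀o⟩ hx₀1 hvo h1.eq
    rw [hv1, mul_one] at huv
    have h1 := pow_mul_inv_pow_mem A y (fun x hx => he y hy x hx) (p ^ k) a haA
    rw [← hk, ← huv, pow_orderOf_eq_one, one_mul] at h1
    have h2 : y ^ orderOf (a * y) ∈ A := by simpa using A.inv_mem h1
    have h3 : (orderOf (a * y)).Coprime (orderOf y) := by
      rw [huv, hk]
      exact (Nat.Coprime.pow_right k hyo).symm
    obtain ⟨m, hm⟩ := exists_pow_eq_self_of_coprime h3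
    rw [← hm]
    exact A.pow_mem h2 m
  have htA : t ∈ A := (memA t).2 rfl
  have hAnil : Group.IsNilpotent A := by rw [hA]; exact hCN t ht1
  have hHA : ∀ x ∈ H, x ∈ A → x = 1 := fun x hxH hxA =>
    eq_one_of_orderOf_pow_coprime (orderOf_of_mem_isPGroup hHp hxH) (hd x hxA)
  obtain ⟨h₀, hh₀, hh₀1⟩ : ∃ h ∈ H, h ≠ 1 := by
    obtain ⟨⟨x, hx⟩, hx1⟩ := (Subgroup.ne_bot_iff_exists_ne_one).1 hH1
    exact ⟨x, hx, fun h => hx1 (Subtype.ext h)⟩
  -- odd order
  have hodd : Odd (Nat.card A) := by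
    by_contra hne
    rw [Nat.not_odd_iff_even, even_iff_two_dvd] at hne
    obtain ⟨s, hs⟩ := exists_prime_orderOf_dvd_card' (G := A) 2 hne
    have hso : orderOf (s : G) = 2 := by rw [Subgroup.orderOf_coe, hs]
    have inv : ∀ s' ∈ A, orderOf s' = 2 → ∀ h ∈ H, s' * h * s'⁻¹ = h⁻¹ := by
      intro s' hs'A hs'o
      apply fpf_involution_inverts H s' (by rw [← pow_two, ← hs'o, pow_orderOf_eq_one])
      intro h hh hcomm
      by_contra hne
      have := hfpf (hd s' hs'A) hh hne hcomm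
      rw [this, orderOf_one] at hs'o
      omega
    have uniq : ∀ s' ∈ A, orderOf s' = 2 → s' = s := by
      intro s' hs'A hs'o
      have h1 : (s' * (s : G)) * h₀ = h₀ * (s' * s) := by
        have e1 := inv s s.2 hso h₀ hh₀
        have e2 := inv s' hs'A hs'o h₀⁻¹ (H.inv_mem hh₀)
        rw [inv_inv] at e2
        calc (s' * (s : G)) * h₀ = s' * ((s : G) * h₀ * (s : G)⁻¹) * s := by group
          _ = (s' * h₀⁻¹ * s'⁻¹) * (s' * s) := by rw [e1]; group
          _ = h₀ * (s' * s) := by rw [e2]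
      have h2 := hfpf (hd _ (A.mul_mem hs'A s.2)) hh₀ hh₀1 h1
      have h3 : (s : G) * s = 1 := by rw [← pow_two, ← hso, pow_orderOf_eq_one]
      calc s' = s' * ((s : G) * s) := by rw [h3, mul_one]
        _ = (s' * s) * s := by group
        _ = s := by rw [h2, one_mul]
    have h3 := uniq (x₀ * s * x₀⁻¹) (he x₀ hx₀G s s.2) (by
      have : x₀ * s * x₀⁻¹ = MulAut.conj x₀ (s : G) := by simp
      rw [this, MulEquiv.orderOf_eq, hso])
    have h4 : x₀ * s = s * x₀ := by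
      calc x₀ * s = (x₀ * s * x₀⁻¹) * x₀ := by group
        _ = s * x₀ := by rw [h3]
    have h5 := hnc ⟨j₀, hx₀o⟩ hx₀1 (hd s s.2) h4
    rw [h5, orderOf_one] at hso
    omega
  have key0 : ∀ B : Subgroup A, IsMulCommutative B → IsCyclic B := by
    intro B hB
    have hVc : IsMulCommutative (H ⊓ Subgroup.centralizer (H : Set G) : Subgroup G) :=
      ⟨⟨fun a b => Subtype.ext ((Subgroup.mem_centralizer_iff.1 a.2.2 b b.2.1).symm)⟩⟩
    have hV1 : (H ⊓ Subgroup.centralizer (H : Set G) : Subgroup G) ≠ ⊥ := by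
      have hdvd : p ∣ Nat.card H := by
        obtain ⟨n, hn⟩ := IsPGroup.iff_card.1 hHp
        rw [hn]
        apply dvd_pow_self
        rintro rfl
        rw [pow_zero] at hn
        exact hH1 (Subgroup.card_eq_one.1 hn)
      obtain ⟨z, hzH, hz1, -, hzc⟩ := exists_central_pElement hHp.isNilpotent p hdvd
      intro hbot
      apply hz1
      rw [← Subgroup.mem_bot, ← hbot]
      exact ⟨hzH, Subgroup.mem_centralizer_iff.2 fun h hh => hzc h hh⟩
    have hVn : (H ⊓ Subgroup.centralizer (H : Set G) : Subgroup G).Normal := inferInstance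
    have h1 : IsCyclic (B.map A.subtype : Subgroup G) :=
      Cfsg.Agent.S0041.result (B.map A.subtype) (H ⊓ Subgroup.centralizer (H : Set G)) hV1
        (by rw [Subgroup.normalizer_eq_top_iff.2 hVn]; exact le_top)
        (by
          rintro _ ⟨a, -, rfl⟩ ha1
          rw [eq_bot_iff]
          rintro v ⟨⟨hvH, -⟩, hv⟩
          rw [Subgroup.mem_bot]
          by_contra hv1
          exact ha1 (hfpf (hd _ a.2) hvH hv1 (Subgroup.mem_centralizer_singleton_iff.1 hv).symm))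
        (Or.inl inferInstance)
    let e1 := B.equivMapOfInjective A.subtype (Subgroup.subtype_injective _)
    exact isCyclic_of_injective e1.toMonoidHom e1.injective
  have hcyc : IsCyclic A := by
    have hZ : IsZGroup A := by
      refine ⟨fun r hr R => ?_⟩
      have : Fact r.Prime := ⟨hr⟩
      rcases sylow_cyclic_or_quaternion_of_key key0 r R with h | ⟨-, n, ⟨e⟩⟩
      · exact h
      · exfalso
        have h1 : Nat.card R = 4 * 2 ^ n := by
          rw [Nat.card_congr e.toEquiv, Nat.card_eq_fintype_card, QuaternionGroup.card]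
        have h2 : Nat.card R ∣ Nat.card A := Subgroup.card_subgroup_dvd_card _
        rw [h1] at h2
        have h3 : 2 ∣ Nat.card A := Dvd.dvd.trans ⟨2 * 2 ^ n, by ring⟩ h2
        exact (Nat.not_even_iff_odd.2 hodd) (even_iff_two_dvd.2 h3)
    infer_instance
  have hNn : (H ⊔ A).Normal := by
    constructor
    intro n hn g
    have hn' : n ∈ ((H ⊔ A : Subgroup G) : Set G) := hn
    rw [Subgroup.normal_mul] at hn'
    obtain ⟨h', hh', a, haA, rfl⟩ := Set.mem_mul.1 hn'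
    obtain ⟨h, hh, g₁, hg₁, rfl⟩ := hb g
    have e : h * g₁ * (h' * a) * (h * g₁)⁻¹ = (h * g₁ * h' * (h * g₁)⁻¹) *
        (h * ((g₁ * a * g₁⁻¹) * h⁻¹ * (g₁ * a * g₁⁻¹)⁻¹)) * (g₁ * a * g₁⁻¹) := by group
    rw [e]
    exact Subgroup.mul_mem _ (Subgroup.mul_mem _ (Subgroup.mem_sup_left (hHn.conj_mem _ hh' _))
      (Subgroup.mem_sup_left (H.mul_mem hh (hHn.conj_mem _ (H.inv_mem hh) _))))
      (Subgroup.mem_sup_right (he g₁ hg₁ a haA))
  have hidx : ∃ n : ℕ, (H ⊔ A).index = p ^ n := by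
    have hPG : IsPGroup p (G ⧸ (H ⊔ A)) := by
      intro x
      obtain ⟨g, rfl⟩ := QuotientGroup.mk_surjective x
      obtain ⟨h, hh, g₁, hg₁, rfl⟩ := hb g
      obtain ⟨u, hu, v, hv, huv, ⟨k, hk⟩, hvo⟩ := exists_pPart_mul_pPrimePart p hp.out g₁
      refine ⟨k, ?_⟩
      have hvA : v ∈ A := hg v ((Subgroup.zpowers_le.2 hg₁) hv) hvo
      have e : (QuotientGroup.mk (h * g₁) : G ⧸ (H ⊔ A)) = QuotientGroup.mk u := by
        rw [QuotientGroup.eq, huv]
        have e2 : (h * (u * v))⁻¹ * u = v⁻¹ * (u⁻¹ * h⁻¹ * u⁻¹⁻¹) := by group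
        rw [e2]
        exact Subgroup.mul_mem _ (Subgroup.mem_sup_right (A.inv_mem hvA))
          (Subgroup.mem_sup_left (hHn.conj_mem _ (H.inv_mem hh) _))
      rw [e, ← QuotientGroup.mk_pow, ← hk, pow_orderOf_eq_one]
      rfl
    obtain ⟨n, hn⟩ := IsPGroup.iff_card.1 hPG
    exact ⟨n, by rw [Subgroup.index_eq_card, hn]⟩
  have hne_top : H ⊔ A ≠ ⊤ := by
    intro htop
    have hx : x₀ ∈ ((H ⊔ A : Subgroup G) : Set G) := by rw [htop]; trivial
    rw [Subgroup.normal_mul] at hx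
    obtain ⟨h, hh, a, haA, hx⟩ := Set.mem_mul.1 hx
    have h1 : h = 1 := by
      apply ha h hh
      have : h = x₀ * a⁻¹ := by rw [← hx]; group
      rw [this]
      exact G₁.mul_mem hx₀G (G₁.inv_mem (hc haA))
    rw [h1, one_mul] at hx
    apply hx₀1
    apply eq_one_of_orderOf_pow_coprime ⟨j₀, hx₀o⟩
    rw [← hx]
    exact hd a haA
  rw [IsThreeStepGroup, ← hHdef]
  refine ⟨hH1, A, ?_, hcyc, hodd, hcardA, hNn, hne_top, hidx, ?_, ?_⟩
  · intro hbot
    rw [hbot] at htA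
    exact ht1 (Subgroup.mem_bot.1 htA)
  · intro a haA ha1
    rw [eq_bot_iff]
    rintro v ⟨hvH, hv⟩
    rw [Subgroup.mem_bot]
    by_contra hv1
    exact ha1 (hfpf (hd _ haA) hvH hv1 (Subgroup.mem_centralizer_singleton_iff.1 hv).symm)
  · intro x hx a haA ha1 hmem
    obtain ⟨h, hh, g₁, hg₁, rfl⟩ := hb x
    have ha' : g₁ * a * g₁⁻¹ ∈ A := he g₁ hg₁ a haA
    have h1 : (g₁ * a * g₁⁻¹) * a⁻¹ ∈ H := by
      have : (g₁ * a * g₁⁻¹) * a⁻¹ = (h * ((g₁ * a * g₁⁻¹) * h⁻¹ * (g₁ * a * g₁⁻¹)⁻¹))⁻¹ *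
          (h * g₁ * a * (h * g₁)⁻¹ * a⁻¹) := by group
      rw [this]
      exact H.mul_mem (H.inv_mem (H.mul_mem hh (hHn.conj_mem _ (H.inv_mem hh) _))) hmem
    have h2 : (g₁ * a * g₁⁻¹) * a⁻¹ = 1 := hHA _ h1 (A.mul_mem ha' (A.inv_mem haA))
    have h3 : g₁ * a = a * g₁ := by
      calc g₁ * a = ((g₁ * a * g₁⁻¹) * a⁻¹) * (a * g₁) := by group
        _ = a * g₁ := by rw [h2, one_mul]
    obtain ⟨u, hu, v, hv, huv, huo, hvo⟩ := exists_pPart_mul_pPrimePart p hp.out g₁
    have hvA : v ∈ A := hg v ((Subgroup.zpowers_le.2 hg₁) hv) hvo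
    have hu1 : u ≠ 1 := by
      intro hu1
      apply hx
      rw [huv, hu1, one_mul]
      exact Subgroup.mul_mem _ (Subgroup.mem_sup_left hh) (Subgroup.mem_sup_right hvA)
    obtain ⟨m, rfl⟩ := Subgroup.mem_zpowers_iff.1 hu
    have h4 : Commute (g₁ ^ m) a := Commute.zpow_left h3 m
    exact ha1 (hnc huo hu1 (hd a haA) h4.eq)

end caseB

end Cfsg.Agent.Lib.Helper25
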