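import Mathlib

/-!
* A finite group in which elements of prime power orders for distinct primes commute is nilpotent.
* Images of nilpotent subgroups are nilpotent.
* Fixed points of an element of prime power order acting by conjugation on a finite subset.
-/

set_option autoImplicit false

namespace Cfsg.Agent.Lib.Helper25

theorem isNilpotent_of_commute {X : Type*} [Group X] [Finite X]
    (h : ∀ (p q : ℕ), p.Prime → q.Prime → p ≠ q → ∀ x y : X, (∃ i, orderOf x = p ^ i) →
      (∃ j, orderOf y = q ^ j) → x * y = y * x) : Group.IsNilpotent X := by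
  refine (Group.isNilpotent_of_finite_tfae.out 0 3).2 ?_
  intro p hp P
  rw [← Subgroup.normalizer_eq_top_iff, ← Subgroup.index_eq_one, Nat.eq_one_iff_not_exists_prime_dvd]
  intro q hq hqd
  have : Fact q.Prime := ⟨hq⟩
  have key : ∃ Q : Sylow q X, (Q : Subgroup X) ≤ Subgroup.normalizer ((P : Subgroup X) : Set X) := by
    by_cases hqp : q = p
    · subst hqp
      exact ⟨P, Subgroup.le_normalizer⟩
    · obtain ⟨Q⟩ : Nonempty (Sylow q X) := inferInstance
      refine ⟨Q, fun y hy => ?_⟩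
      apply Subgroup.centralizer_le_normalizer ((P : Subgroup X) : Set X)
      rw [Subgroup.mem_centralizer_iff]
      intro x hx
      obtain ⟨i, hi⟩ := (IsPGroup.iff_orderOf.1 P.2) ⟨x, hx⟩
      obtain ⟨j, hj⟩ := (IsPGroup.iff_orderOf.1 Q.2) ⟨y, hy⟩
      exact h p q hp.out hq (Ne.symm hqp) x y ⟨i, by rw [← hi]; simp⟩ ⟨j, by rw [← hj]; simp⟩
  obtain ⟨Q, hQ⟩ := key
  exact Q.not_dvd_index (hqd.trans (Subgroup.index_dvd_of_le hQ))

theorem isNilpotent_subgroup_of_commute {G : Type*} [Group G] [Finite G] (C : Subgroup G)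
    (h : ∀ (p q : ℕ), p.Prime → q.Prime → p ≠ q → ∀ x ∈ C, ∀ y ∈ C, (∃ i, orderOf x = p ^ i) →
      (∃ j, orderOf y = q ^ j) → x * y = y * x) : Group.IsNilpotent C := by
  apply isNilpotent_of_commute
  rintro p q hp hq hpq ⟨x, hx⟩ ⟨y, hy⟩ ⟨i, hi⟩ ⟨j, hj⟩
  apply Subtype.ext
  exact h p q hp hq hpq x hx y hy ⟨i, by rw [← hi]; simp⟩ ⟨j, by rw [← hj]; simp⟩

theorem isNilpotent_map {G Q : Type*} [Group G] [Group Q] (f : G →* Q) {C : Subgroup G}
    (hC : Group.IsNilpotent C) : Group.IsNilpotent (C.map f) :=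
  Group.nilpotent_of_surjective (f.subgroupMap C) (f.subgroupMap_surjective C)

theorem isNilpotent_of_le' {G : Type*} [Group G] {A B : Subgroup G} (h : A ≤ B)
    (hB : Group.IsNilpotent B) : Group.IsNilpotent A :=
  Group.nilpotent_of_mulEquiv (Subgroup.subgroupOfEquivOfLe h)

/-- Fixed point congruence for conjugation by an element of `q`-power order on a finite stable set. -/
theorem card_modEq_card_fixed_conj {G : Type*} [Group G] (T : Set G) [Finite T] (q : ℕ)
    [Fact q.Prime] (b : G) (j : ℕ) (hb : b ^ (q ^ j) = 1) (hbT : ∀ t ∈ T, b * t * b⁻¹ ∈ T) :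
    Nat.card T ≡ Nat.card {t : T // b * (t : G) * b⁻¹ = t} [MOD q] := by
  classical
  have : Fintype T := Fintype.ofFinite T
  let f : Function.End T := fun y => ⟨b * y * b⁻¹, hbT y y.2⟩
  have hfk : ∀ (k : ℕ) (y : T), ((f ^ k) y : G) = b ^ k * y * (b ^ k)⁻¹ := by
    intro k
    induction k with
    | zero => intro y; rw [pow_zero, pow_zero]; show (y : G) = _; simp
    | succ k ih =>
      intro y
      rw [pow_succ']
      show b * ((f ^ k) y : G) * b⁻¹ = _
      rw [ih, pow_succ']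
      group
  have hf : f ^ q ^ j = 1 := by
    funext y
    apply Subtype.ext
    rw [hfk, hb]
    show _ = (y : G)
    simp
  have hmod := Equiv.Perm.card_fixedPoints_modEq hf
  rw [← Nat.card_eq_fintype_card, ← Nat.card_eq_fintype_card] at hmod
  have hE : Nat.card (Function.fixedPoints f) = Nat.card {t : T // b * (t : G) * b⁻¹ = t} := by
    apply Nat.card_congr
    refine Equiv.subtypeEquivRight (fun t => ?_)
    show f t = t ↔ _
    exact Subtype.ext_iff
  rw [← hE]
  exact hmod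

/-- A `p`-element normalizing a nontrivial `p`-subgroup centralizes a nontrivial element of it. -/
theorem exists_fixed_of_pElement {G : Type*} [Group G] [Finite G] {p : ℕ} [hp : Fact p.Prime]
    (D : Subgroup G) (hD : IsPGroup p D) (hD1 : D ≠ ⊥) (a : G) (k : ℕ) (ha : orderOf a = p ^ k)
    (haD : ∀ d ∈ D, a * d * a⁻¹ ∈ D) : ∃ z ∈ D, z ≠ 1 ∧ a * z = z * a := by
  have hmod := card_modEq_card_fixed_conj (D : Set G) p a k (by rw [← ha, pow_orderOf_eq_one]) haD
  obtain ⟨m, hm⟩ := IsPGroup.iff_card.1 hD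
  have hm0 : m ≠ 0 := by
    rintro rfl
    rw [pow_zero] at hm
    exact hD1 (Subgroup.card_eq_one.1 hm)
  have hcard : Nat.card (D : Set G) = p ^ m := hm
  rw [hcard] at hmod
  have hdvd : p ∣ Nat.card {t : (D : Set G) // a * (t : G) * a⁻¹ = t} := by
    rw [← Nat.modEq_zero_iff_dvd]
    refine hmod.symm.trans ?_
    rw [Nat.modEq_zero_iff_dvd]
    exact dvd_pow_self p hm0
  have hone : 1 < Nat.card {t : (D : Set G) // a * (t : G) * a⁻¹ = t} := by
    have hpos : 0 < Nat.card {t : (D : Set G) // a * (t : G) * a⁻¹ = t} := by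
      have : Nonempty {t : (D : Set G) // a * (t : G) * a⁻¹ = t} := ⟨⟨⟨1, D.one_mem⟩, by simp⟩⟩
      exact Nat.card_pos
    exact lt_of_lt_of_le hp.out.one_lt (Nat.le_of_dvd hpos hdvd)
  rw [Finite.one_lt_card_iff_nontrivial] at hone
  obtain ⟨⟨⟨z, hzD⟩, hz⟩, hz1⟩ := exists_ne (⟨⟨1, D.one_mem⟩, by simp⟩ :
    {t : (D : Set G) // a * (t : G) * a⁻¹ = t})
  refine ⟨z, hzD, ?_, ?_⟩
  · rintro rfl
    exact hz1 rfl
  · have : a * z = (a * z * a⁻¹) * a := by group
    rw [this]
    exact congrArg (· * a) hz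

/-- An element of `q`-power order stabilizing (by conjugation) a finite set of cardinality prime to
`q` fixes a point. -/
theorem exists_fixed_of_not_dvd {G : Type*} [Group G] (T : Set G) [Finite T] (q : ℕ)
    [Fact q.Prime] (b : G) (j : ℕ) (hb : orderOf b = q ^ j) (hbT : ∀ t ∈ T, b * t * b⁻¹ ∈ T)
    (hT : ¬ q ∣ Nat.card T) : ∃ t ∈ T, b * t = t * b := by
  have hmod := card_modEq_card_fixed_conj T q b j (by rw [← hb, pow_orderOf_eq_one]) hbT
  have hne : Nat.card {t : T // b * (t : G) * b⁻¹ = t} ≠ 0 := by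
    intro h0
    rw [h0] at hmod
    exact hT ((Nat.modEq_zero_iff_dvd).1 hmod)
  have hpos := Nat.pos_of_ne_zero hne
  rw [Nat.card_pos_iff] at hpos
  obtain ⟨⟨⟨⟨t, htT⟩, ht⟩⟩, -⟩ := hpos
  refine ⟨t, htT, ?_⟩
  have : b * t = (b * t * b⁻¹) * b := by group
  rw [this]
  exact congrArg (· * b) ht

end Cfsg.Agent.Lib.Helper25
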