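import Mathlib

/-!
The "norm trick": a group `R⟨y⟩` (`y` normalizing `R`, all `x * y`, `x ∈ R`, of order dividing the prime `s`)
acting on a commutative group `V` such that some element of `R` and all the `x * y` act fixed point freely
forces `v ^ |R| = 1` for all `v`.
-/

set_option autoImplicit false

namespace Cfsg.Agent.Lib.Helper25

theorem norm_trick {V F : Type*} [CommGroup V] [Group F] (ρ : F →* MulAut V) (R : Subgroup F)
    [Finite R] (y : F) (s : ℕ) (hs : s.Prime)
    (hyR : ∀ x ∈ R, y * x * y⁻¹ ∈ R)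
    (hpow : ∀ x ∈ R, (x * y) ^ s = 1)
    (hfpf : ∀ x ∈ R, ∀ v : V, ρ (x * y) v = v → v = 1)
    (x₀ : F) (hx₀ : x₀ ∈ R) (hfpf₀ : ∀ v : V, ρ x₀ v = v → v = 1) (v : V) :
    v ^ Nat.card R = 1 := by
  classical
  have : Fintype R := Fintype.ofFinite R
  have F2 : ∀ u : V, ∏ x : R, ρ (x : F) u = 1 := by
    intro u
    apply hfpf₀
    rw [map_prod]
    have h1 : ∀ x : R, ρ x₀ (ρ (x : F) u) = ρ (((⟨x₀, hx₀⟩ : R) * x : R) : F) u := by
      intro x
      simp [map_mul, MulAut.mul_apply]
    simp_rw [h1]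
    exact Equiv.prod_comp (Equiv.mulLeft (⟨x₀, hx₀⟩ : R)) (fun x : R => ρ (x : F) u)
  have F3 : ∀ x ∈ R, ∏ i ∈ Finset.range s, ρ ((x * y) ^ i) v = 1 := by
    intro x hx
    apply hfpf x hx
    rw [map_prod]
    have h0 : ∀ i, ρ (x * y) (ρ ((x * y) ^ i) v) = ρ ((x * y) ^ (i + 1)) v := by
      intro i
      rw [pow_succ', map_mul ρ (x * y), MulAut.mul_apply]
    simp_rw [h0]
    have h1 := Finset.prod_range_succ (fun i => ρ ((x * y) ^ i) v) s
    have h2 := Finset.prod_range_succ' (fun i => ρ ((x * y) ^ i) v) s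
    rw [h1] at h2
    simp only [hpow x hx, pow_zero] at h2
    exact (mul_right_cancel h2).symm
  have hyi : ∀ (i : ℕ), ∀ x ∈ R, y ^ i * x * (y ^ i)⁻¹ ∈ R := by
    intro i
    induction i with
    | zero => intro x hx; simpa using hx
    | succ i ih =>
      intro x hx
      have := hyR _ (ih x hx)
      convert this using 1
      rw [pow_succ']
      group
  have hN : ∀ (i : ℕ), ∀ x ∈ R, (x * y) ^ i * (y ^ i)⁻¹ ∈ R := by
    intro i
    induction i with
    | zero => intro x hx; simp [R.one_mem]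
    | succ i ih =>
      intro x hx
      have h1 := R.mul_mem (ih x hx) (hyi i x hx)
      convert h1 using 1
      rw [pow_succ, pow_succ]
      generalize (x * y) ^ i = a
      generalize y ^ i = b
      group
  have F4 : ∀ i ∈ Finset.range s, i ≠ 0 → ∏ x : R, ρ (((x : F) * y) ^ i) v = 1 := by
    intro i hi hi0
    let e : R → R := fun x => ⟨((x : F) * y) ^ i * (y ^ i)⁻¹, hN i x x.2⟩
    have hcop : Nat.Coprime i s := by
      apply Nat.Coprime.symm
      rw [Nat.Prime.coprime_iff_not_dvd hs]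
      intro hd
      exact absurd (Nat.le_of_dvd (Nat.pos_of_ne_zero hi0) hd) (not_le.2 (Finset.mem_range.1 hi))
    obtain ⟨j, -, hj⟩ := Nat.exists_mul_mod_eq_one_of_coprime hcop hs.one_lt
    have hinj : Function.Injective e := by
      intro x x' hxx
      have h1 : ((x : F) * y) ^ i * (y ^ i)⁻¹ = ((x' : F) * y) ^ i * (y ^ i)⁻¹ :=
        congrArg Subtype.val hxx
      have h2 : ((x : F) * y) ^ i = ((x' : F) * y) ^ i := mul_right_cancel h1
      have h3 : ∀ z : R, (((z : F) * y) ^ i) ^ j = (z : F) * y := by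
        intro z
        rw [← pow_mul, pow_eq_pow_mod _ (hpow z z.2), hj, pow_one]
      have h4 : (x : F) * y = (x' : F) * y := by rw [← h3 x, ← h3 x', h2]
      exact Subtype.ext (mul_right_cancel h4)
    have hbij : Function.Bijective e := Finite.injective_iff_bijective.1 hinj
    have h5 : ∀ x : R, ρ (((x : F) * y) ^ i) v = ρ ((e x : R) : F) (ρ (y ^ i) v) := by
      intro x
      rw [← MulAut.mul_apply, ← map_mul]
      congr 2
      simp [e]
    simp_rw [h5]
    rw [hbij.prod_comp (fun x : R => ρ (x : F) (ρ (y ^ i) v))]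
    exact F2 _
  have h6 : ∏ x : R, ∏ i ∈ Finset.range s, ρ (((x : F) * y) ^ i) v = 1 :=
    Finset.prod_eq_one (fun x _ => F3 x x.2)
  rw [Finset.prod_comm, Finset.prod_eq_single 0 (fun i hi hi0 => F4 i hi hi0)
    (fun h => absurd (Finset.mem_range.2 hs.pos) h)] at h6
  simpa [Finset.prod_const, Finset.card_univ, Nat.card_eq_fintype_card] using h6

end Cfsg.Agent.Lib.Helper25
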