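import Mathlib
import Cfsg.Prelude.Def_LieExceptional
import Cfsg.Agent.Lib.Helper25.NilpotentCoprime
import Cfsg.Agent.Lib.Helper25.NilpotentCrit
import Cfsg.Agent.Lib.Helper25.NormTrick
import Cfsg.Agent.Lib.Lead.FrobeniusComplement

/-!
A finite CN-group acting fixed point freely on a nontrivial finite abelian group of coprime order is nilpotent.
-/

set_option autoImplicit false

namespace Cfsg.Agent.Lib.Helper25

open Cfsg

theorem pow_mul_inv_pow_mem {F : Type*} [Group F] (R : Subgroup F) (y : F)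
    (hyR : ∀ x ∈ R, y * x * y⁻¹ ∈ R) (i : ℕ) : ∀ x ∈ R, (x * y) ^ i * (y ^ i)⁻¹ ∈ R := by
  have hyi : ∀ (i : ℕ), ∀ x ∈ R, y ^ i * x * (y ^ i)⁻¹ ∈ R := by
    intro i
    induction i with
    | zero => intro x hx; simpa using hx
    | succ i ih =>
      intro x hx
      have := hyR _ (ih x hx)
      convert this using 1
      rw [pow_succ']
      group
  induction i with
  | zero => intro x hx; simp [R.one_mem]
  | succ i ih =>
    intro x hx
    have h1 := R.mul_mem (ih x hx) (hyi i x hx)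
    convert h1 using 1
    rw [pow_succ, pow_succ]
    generalize (x * y) ^ i = a
    generalize y ^ i = b
    group

/-- If a subgroup contains all elements of prime power order of `zpowers g` then it contains `g`. -/
theorem mem_of_forall_primePow_mem {G : Type*} [Group G] [Finite G] (S : Subgroup G) (n : ℕ) :
    ∀ g : G, orderOf g = n →
      (∀ g' ∈ Subgroup.zpowers g, ∀ r k : ℕ, r.Prime → orderOf g' = r ^ k → g' ∈ S) → g ∈ S := by
  induction n using Nat.strong_induction_on with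
  | _ n ih =>
    intro g hgn hg
    by_cases hg1 : g = 1
    · rw [hg1]; exact S.one_mem
    have ho : orderOf g ≠ 1 := fun h => hg1 (orderOf_eq_one_iff.1 h)
    obtain ⟨p, hp, hpg⟩ := Nat.exists_prime_and_dvd ho
    obtain ⟨u, hu, v, hv, huv, ⟨k, hk⟩, hvp⟩ := exists_pPart_mul_pPrimePart p hp g
    have hvd : orderOf v ∣ orderOf g := orderOf_dvd_of_mem_zpowers hv
    have hvne : orderOf v ≠ orderOf g := by
      intro h
      rw [h] at hvp
      exact hp.one_lt.ne' (Nat.eq_one_of_dvd_coprimes hvp hpg dvd_rfl)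
    have hvlt : orderOf v < n := by
      rw [← hgn]
      exact lt_of_le_of_ne (Nat.le_of_dvd (orderOf_pos g) hvd) hvne
    rw [huv]
    refine S.mul_mem (hg u hu p k hp hk) (ih _ hvlt v rfl ?_)
    intro g' hg' r k' hr hk'
    exact hg g' ((Subgroup.zpowers_le.2 hv) hg') r k' hr hk'

theorem mem_zpowers_of_prime_orderOf {G : Type*} [Group G] {q : ℕ} (hq : q.Prime) {t z : G}
    (ht : orderOf t = q) (hz : z ∈ Subgroup.zpowers t) (hz1 : z ≠ 1) : t ∈ Subgroup.zpowers z := by
  have : Fact q.Prime := ⟨hq⟩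
  have hcard : Nat.card (Subgroup.zpowers t) = q := by rw [Nat.card_zpowers, ht]
  have h := mem_zpowers_of_prime_card hcard (g := (⟨z, hz⟩ : Subgroup.zpowers t))
    (g' := ⟨t, Subgroup.mem_zpowers t⟩) (by
      intro h
      exact hz1 (congrArg Subtype.val h))
  obtain ⟨k, hk⟩ := Subgroup.mem_zpowers_iff.1 h
  exact Subgroup.mem_zpowers_iff.2 ⟨k, by simpa using congrArg Subtype.val hk⟩

/-- an element of order `r ^ (k+1)` has a power of order `r`. -/
theorem orderOf_pow_pow_pred {G : Type*} [Group G] {r k : ℕ} (hr : r.Prime) {g : G}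
    (hg : orderOf g = r ^ (k + 1)) : orderOf (g ^ r ^ k) = r := by
  have h := orderOf_pow_orderOf_div (x := g) (n := r) (by rw [hg]; exact pow_ne_zero _ hr.ne_zero)
    (by rw [hg]; exact dvd_pow_self r (Nat.succ_ne_zero k))
  rwa [hg, pow_succ, Nat.mul_div_cancel _ hr.pos] at h

section fpf

variable {E V : Type*} [Group E] [Finite E] [CommGroup V] [Finite V] [Nontrivial V]

theorem fpf_contra (ρ : E →* MulAut V) (hfpf : ∀ e : E, e ≠ 1 → ∀ v : V, ρ e v = v → v = 1)
    (hcop : (Nat.card V).Coprime (Nat.card E)) (R : Subgroup E) (x₀ : E) (hx₀ : x₀ ∈ R)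
    (hx₀1 : x₀ ≠ 1) (y : E) (s : ℕ) (hs : s.Prime) (hyR : ∀ x ∈ R, y * x * y⁻¹ ∈ R)
    (hpow : ∀ x ∈ R, (x * y) ^ s = 1) (hne : ∀ x ∈ R, x * y ≠ 1) : False := by
  obtain ⟨v, hv⟩ := exists_ne (1 : V)
  apply hv
  have h1 := norm_trick ρ R y s hs hyR hpow (fun x hx => hfpf _ (hne x hx)) x₀ hx₀ (hfpf _ hx₀1) v
  have d1 : orderOf v ∣ Nat.card E :=
    (orderOf_dvd_of_pow_eq_one h1).trans (Subgroup.card_subgroup_dvd_card R)
  have d2 : orderOf v ∣ Nat.card V := orderOf_dvd_natCard v
  exact orderOf_eq_one_iff.1 (Nat.eq_one_of_dvd_coprimes hcop d2 d1)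

theorem fpf_mem_zpowers (ρ : E →* MulAut V) (hfpf : ∀ e : E, e ≠ 1 → ∀ v : V, ρ e v = v → v = 1)
    (hcop : (Nat.card V).Coprime (Nat.card E)) {q : ℕ} (hq : q.Prime) {a b : E}
    (ha : orderOf a = q) (hb : orderOf b = q) (hab : a * b = b * a) : b ∈ Subgroup.zpowers a := by
  by_contra hcon
  have hcomm : ∀ x ∈ Subgroup.zpowers a, Commute x b := by
    intro x hx
    obtain ⟨k, rfl⟩ := Subgroup.mem_zpowers_iff.1 hx
    exact Commute.zpow_left hab k
  refine fpf_contra ρ hfpf hcop (Subgroup.zpowers a) a (Subgroup.mem_zpowers a) ?_ b q hq ?_ ?_ ?_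
  · rintro rfl
    rw [orderOf_one] at ha
    exact hq.one_lt.ne ha
  · intro x hx
    rw [← (hcomm x hx).eq, mul_inv_cancel_right]
    exact hx
  · intro x hx
    rw [(hcomm x hx).mul_pow, ← hb, pow_orderOf_eq_one, mul_one, hb, ← ha]
    obtain ⟨k, rfl⟩ := Subgroup.mem_zpowers_iff.1 hx
    rw [← zpow_natCast, ← zpow_mul, mul_comm, zpow_mul, zpow_natCast, pow_orderOf_eq_one, one_zpow]
  · intro x hx h1
    apply hcon
    have : b = x⁻¹ := (inv_eq_of_mul_eq_one_right h1).symm
    rw [this]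
    exact Subgroup.inv_mem _ hx

theorem fpf_commute_prime (ρ : E →* MulAut V)
    (hfpf : ∀ e : E, e ≠ 1 → ∀ v : V, ρ e v = v → v = 1)
    (hcop : (Nat.card V).Coprime (Nat.card E)) {q r : ℕ} (hq : q.Prime) (hr : r.Prime) {t y : E}
    (ht : orderOf t = q) (hy : orderOf y = r) (hyt : y * t * y⁻¹ ∈ Subgroup.zpowers t) :
    y * t = t * y := by
  by_contra hcon
  have hyR : ∀ x ∈ Subgroup.zpowers t, y * x * y⁻¹ ∈ Subgroup.zpowers t := by
    intro x hx
    obtain ⟨k, rfl⟩ := Subgroup.mem_zpowers_iff.1 hx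
    rw [← conj_zpow]
    exact Subgroup.zpow_mem _ hyt k
  have hxt : ∀ x ∈ Subgroup.zpowers t, x * t = t * x := by
    intro x hx
    obtain ⟨k, rfl⟩ := Subgroup.mem_zpowers_iff.1 hx
    exact (Commute.zpow_left (Commute.refl t) k).eq
  -- if `x * y` commutes with `t` then so does `y`
  have hkey : ∀ x ∈ Subgroup.zpowers t, (x * y) * t ≠ t * (x * y) := by
    intro x hx h
    apply hcon
    have h2 : x * (y * t) = x * (t * y) := by
      rw [← mul_assoc, h, ← mul_assoc, ← hxt x hx, mul_assoc]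
    exact mul_left_cancel h2
  refine fpf_contra ρ hfpf hcop (Subgroup.zpowers t) t (Subgroup.mem_zpowers t) ?_ y r hr hyR ?_ ?_
  · rintro rfl
    rw [orderOf_one] at ht
    exact hq.one_lt.ne ht
  · intro x hx
    by_contra hw1
    have hw : (x * y) ^ r ∈ Subgroup.zpowers t := by
      have := pow_mul_inv_pow_mem (Subgroup.zpowers t) y hyR r x hx
      rwa [← hy, pow_orderOf_eq_one y, inv_one, mul_one, hy] at this
    have htw := mem_zpowers_of_prime_orderOf hq ht hw hw1
    obtain ⟨k, hk⟩ := Subgroup.mem_zpowers_iff.1 htw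
    apply hkey x hx
    rw [← hk]
    exact (Commute.zpow_right (Commute.pow_right (Commute.refl (x * y)) r) k).eq
  · intro x hx h1
    apply hkey x hx
    rw [h1, one_mul, mul_one]

theorem fpf_commute_of_normalizes (hCN : IsCNGroup E) (ρ : E →* MulAut V)
    (hfpf : ∀ e : E, e ≠ 1 → ∀ v : V, ρ e v = v → v = 1)
    (hcop : (Nat.card V).Coprime (Nat.card E)) {q : ℕ} (hq : q.Prime) {t g : E}
    (ht : orderOf t = q) (hgt : g * t * g⁻¹ ∈ Subgroup.zpowers t) : g * t = t * g := by
  have : Fact q.Prime := ⟨hq⟩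
  have hnorm : ∀ g' ∈ Subgroup.zpowers g, ∀ x ∈ Subgroup.zpowers t,
      g' * x * g'⁻¹ ∈ Subgroup.zpowers t := by
    have hN : g ∈ Subgroup.normalizer ((Subgroup.zpowers t : Subgroup E) : Set E) := by
      have hle : (Subgroup.zpowers t).map (MulAut.conj g).toMonoidHom ≤ Subgroup.zpowers t := by
        rw [MonoidHom.map_zpowers, Subgroup.zpowers_le]
        simpa using hgt
      have heq : (Subgroup.zpowers t).map (MulAut.conj g).toMonoidHom = Subgroup.zpowers t := by
        apply Subgroup.eq_of_le_of_card_ge hle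
        rw [Subgroup.card_map_of_injective (MulAut.conj g).injective]
      rw [Subgroup.mem_normalizer_iff]
      intro h
      constructor
      · intro hh
        rw [← heq]
        exact ⟨h, hh, by simp⟩
      · intro hh
        rw [← heq] at hh
        obtain ⟨h', hh', he⟩ := hh
        have : h' = h := by
          simpa using he
        rwa [← this]
    intro g' hg' x hx
    have hg'N := (Subgroup.zpowers_le.2 hN) hg'
    exact (Subgroup.mem_normalizer_iff.1 hg'N x).1 hx
  have hmem : g ∈ Subgroup.centralizer ({t} : Set E) := by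
    refine mem_of_forall_primePow_mem _ _ g rfl ?_
    intro g' hg' r k hr hk
    rw [Subgroup.mem_centralizer_singleton_iff]
    by_cases hrq : r = q
    · subst hrq
      obtain ⟨z, hz, hz1, hgz⟩ := exists_fixed_of_pElement (Subgroup.zpowers t)
        (IsPGroup.of_card (n := 1) (by rw [Nat.card_zpowers, ht, pow_one])) (by
          intro hbot
          have := Subgroup.zpowers_eq_bot.1 hbot
          rw [this, orderOf_one] at ht
          exact hr.one_lt.ne ht) g' k hk (hnorm g' hg')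
      obtain ⟨j, hj⟩ := Subgroup.mem_zpowers_iff.1 (mem_zpowers_of_prime_orderOf hr ht hz hz1)
      rw [← hj]
      exact (Commute.zpow_right (show Commute g' z from hgz) j).eq
    · rcases Nat.eq_zero_or_pos k with rfl | hkpos
      · rw [pow_zero, orderOf_eq_one_iff] at hk
        rw [hk, one_mul, mul_one]
      obtain ⟨k, rfl⟩ := Nat.exists_eq_succ_of_ne_zero hkpos.ne'
      have ho := orderOf_pow_pow_pred hr hk
      have h0 := fpf_commute_prime ρ hfpf hcop hq hr ht ho
        (hnorm _ (Subgroup.pow_mem _ hg' _) t (Subgroup.mem_zpowers t))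
      have h01 : g' ^ r ^ k ≠ 1 := by
        intro h
        rw [h, orderOf_one] at ho
        exact hr.one_lt.ne ho
      apply commute_of_coprime_orderOf_of_mem (hCN _ h01)
      · rw [Subgroup.mem_centralizer_singleton_iff]
        exact (Commute.pow_right (Commute.refl g') _).eq
      · exact Subgroup.mem_centralizer_singleton_iff.2 h0.symm
      · rw [hk, ht]
        exact Nat.Coprime.pow_left _ ((Nat.coprime_primes hr hq).2 hrq)
  exact Subgroup.mem_centralizer_singleton_iff.1 hmem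

theorem fpf_frobHyp (hCN : IsCNGroup E) (ρ : E →* MulAut V)
    (hfpf : ∀ e : E, e ≠ 1 → ∀ v : V, ρ e v = v → v = 1)
    (hcop : (Nat.card V).Coprime (Nat.card E)) (q : ℕ) [hq : Fact q.Prime] :
    Cfsg.Agent.Lib.Lead.FrobHyp q E := by
  intro Q hQ g hg hgo
  rw [Subgroup.mem_centralizer_iff]
  intro x hx
  by_cases hQ1 : Q = ⊥
  · rw [hQ1] at hx
    have : x = 1 := by simpa using hx
    rw [this, one_mul, mul_one]
  have hqQ : q ∣ Nat.card Q := by
    obtain ⟨m, hm⟩ := IsPGroup.iff_card.1 hQ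
    have hm0 : m ≠ 0 := by
      rintro rfl
      rw [pow_zero] at hm
      exact hQ1 (Subgroup.card_eq_one.1 hm)
    rw [hm]
    exact dvd_pow_self q hm0
  obtain ⟨y, hyQ, hy1, ⟨k, hk⟩, hyc⟩ := exists_central_pElement hQ.isNilpotent q hqQ
  rcases Nat.eq_zero_or_pos k with rfl | hkpos
  · rw [pow_zero, orderOf_eq_one_iff] at hk
    exact absurd hk hy1
  obtain ⟨k, rfl⟩ := Nat.exists_eq_succ_of_ne_zero hkpos.ne'
  have ho := orderOf_pow_pow_pred hq.out hk
  set t := y ^ q ^ k with ht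
  have htQ : t ∈ Q := Q.pow_mem hyQ _
  have htc : ∀ h ∈ Q, h * t = t * h := by
    intro h hh
    exact (Commute.pow_right (show Commute h y from hyc h hh) _).eq
  have ht1 : t ≠ 1 := by
    intro h
    rw [h, orderOf_one] at ho
    exact hq.out.one_lt.ne ho
  have hgtQ : g * t * g⁻¹ ∈ Q := (Subgroup.mem_normalizer_iff.1 hg t).1 htQ
  have hgto : orderOf (g * t * g⁻¹) = q := by
    have : g * t * g⁻¹ = MulAut.conj g t := by simp
    rw [this, MulEquiv.orderOf_eq, ho]
  have h1 := fpf_mem_zpowers ρ hfpf hcop hq.out ho hgto (htc _ hgtQ).symm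
  have h2 := fpf_commute_of_normalizes hCN ρ hfpf hcop hq.out ho h1
  obtain ⟨j, hj⟩ := (IsPGroup.iff_orderOf.1 hQ) ⟨x, hx⟩
  have hj' : orderOf x = q ^ j := by rw [← hj]; simp
  apply commute_of_coprime_orderOf_of_mem (hCN t ht1)
  · exact Subgroup.mem_centralizer_singleton_iff.2 (htc x hx)
  · exact Subgroup.mem_centralizer_singleton_iff.2 h2
  · rw [hj']
    exact (Nat.Coprime.pow_right _ hgo).symm

end fpf

/-- A finite group with a normal `q`-complement for every prime `q` is nilpotent. -/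
theorem isNilpotent_of_forall_hasNormalPComplement {E : Type*} [Group E] [Finite E]
    (h : ∀ q : ℕ, q.Prime → HasNormalPComplement q E) : Group.IsNilpotent E := by
  have hmul : ∀ q : ℕ, q.Prime → ∀ a b : E, (∃ i, orderOf a = q ^ i) → (∃ j, orderOf b = q ^ j) →
      ∃ k, orderOf (a * b) = q ^ k := by
    intro q hq a b ⟨i, hi⟩ ⟨j, hj⟩
    refine ⟨_, Nat.eq_prime_pow_of_unique_prime_dvd (orderOf_pos _).ne' ?_⟩
    intro d hd hdab
    by_contra hdq
    have : Fact d.Prime := ⟨hd⟩
    obtain ⟨N, hN, h1, k, h2⟩ := Cfsg.Agent.Lib.Lead.hasNormalPComplement_iff.mp (h d hd)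
    have ha : a ∈ N := (Cfsg.Agent.Lib.Lead.mem_iff_coprime_orderOf_of_normal_complement h1 h2 a).2
      (by rw [hi]; exact Nat.Coprime.pow_left _ ((Nat.coprime_primes hq hd).2 (Ne.symm hdq)))
    have hb : b ∈ N := (Cfsg.Agent.Lib.Lead.mem_iff_coprime_orderOf_of_normal_complement h1 h2 b).2
      (by rw [hj]; exact Nat.Coprime.pow_left _ ((Nat.coprime_primes hq hd).2 (Ne.symm hdq)))
    have hab := (Cfsg.Agent.Lib.Lead.mem_iff_coprime_orderOf_of_normal_complement h1 h2 (a * b)).1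
      (N.mul_mem ha hb)
    exact hd.one_lt.ne' (Nat.eq_one_of_dvd_coprimes hab hdab dvd_rfl)
  apply isNilpotent_of_commute
  intro q₁ q₂ hq₁ hq₂ hne a b ⟨i, hi⟩ ⟨j, hj⟩
  have hconj : ∀ g x : E, orderOf (g * x * g⁻¹) = orderOf x := by
    intro g x
    have : g * x * g⁻¹ = MulAut.conj g x := by simp
    rw [this, MulEquiv.orderOf_eq]
  obtain ⟨k₂, hk₂⟩ := hmul q₂ hq₂ (a * b * a⁻¹) b⁻¹ ⟨j, by rw [hconj, hj]⟩
    ⟨j, by rw [orderOf_inv, hj]⟩
  obtain ⟨k₁, hk₁⟩ := hmul q₁ hq₁ a (b * a⁻¹ * b⁻¹) ⟨i, hi⟩ ⟨i, by rw [hconj, orderOf_inv, hi]⟩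
  have he : a * (b * a⁻¹ * b⁻¹) = a * b * a⁻¹ * b⁻¹ := by group
  rw [he] at hk₁
  have h1 : a * b * a⁻¹ * b⁻¹ = 1 := by
    apply orderOf_eq_one_iff.1
    exact Nat.eq_one_of_dvd_coprimes
      (Nat.Coprime.pow k₁ k₂ ((Nat.coprime_primes hq₁ hq₂).2 hne)) (by rw [hk₁]) (by rw [hk₂])
  calc a * b = (a * b * a⁻¹ * b⁻¹) * (b * a) := by group
    _ = b * a := by rw [h1, one_mul]

/-- A finite CN-group acting fixed point freely on a nontrivial finite abelian group of coprime order is
nilpotent. -/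
theorem isNilpotent_of_fpf {E V : Type*} [Group E] [Finite E] [CommGroup V] [Finite V] [Nontrivial V]
    (hCN : IsCNGroup E) (ρ : E →* MulAut V)
    (hfpf : ∀ e : E, e ≠ 1 → ∀ v : V, ρ e v = v → v = 1)
    (hcop : (Nat.card V).Coprime (Nat.card E)) : Group.IsNilpotent E := by
  apply isNilpotent_of_forall_hasNormalPComplement
  intro q hq
  have : Fact q.Prime := ⟨hq⟩
  exact (fpf_frobHyp hCN ρ hfpf hcop q).hasNormalPComplement

end Cfsg.Agent.Lib.Helper25
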