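import Cfsg.Agent.Lib.Helper25.CNSolvable
import Cfsg.Agent.Lib.Helper54.PConstrained
import Cfsg.Agent.Lib.Helper2.Tate
import Cfsg.Agent.S1476
import Cfsg.Agent.S1483
import Cfsg.Agent.S0658
import Cfsg.Agent.S1464

/-!
# Minimal simple CN-groups of odd order: local analysis (helper25)
-/

set_option autoImplicit false
open Cfsg

namespace Cfsg.Agent.Lib.Helper25

open Cfsg.Agent.S1477 Cfsg.Agent.S1483

variable {G : Type*} [Group G] [Finite G]

/-- nontrivial `r`-elements commute with no nontrivial `r'`-element. -/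
def RIsolated (r : ℕ) (G : Type*) [Group G] : Prop :=
  ∀ x y : G, x ≠ 1 → (∃ k : ℕ, orderOf x = r ^ k) → (orderOf y).Coprime r → x * y = y * x → y = 1

omit [Finite G] in
theorem solvable_of_ne_top (hG : IsMinSimpleOddOrder G) {H : Subgroup G} (hH : H ≠ ⊤) :
    Group.IsSolvable H := hG.2.2.2 H hH

omit [Finite G] in
theorem odd_card_subgroup (hG : IsMinSimpleOddOrder G) (H : Subgroup G) : Odd (Nat.card H) :=
  Odd.of_dvd_nat hG.1 (Subgroup.card_subgroup_dvd_card H)

omit [Finite G] in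
theorem not_isSolvable (hG : IsMinSimpleOddOrder G) : ¬ Group.IsSolvable G := by
  intro h
  have := hG.2.1
  exact hG.2.2.1 ⟨⟨(IsSimpleGroup.comm_iff_isSolvable.2 h)⟩⟩

omit [Finite G] in
theorem not_isNilpotent (hG : IsMinSimpleOddOrder G) : ¬ Group.IsNilpotent G := by
  intro h
  exact not_isSolvable hG inferInstance

omit [Finite G] in
theorem normal_eq (hG : IsMinSimpleOddOrder G) {N : Subgroup G} (hN : N.Normal) : N = ⊥ ∨ N = ⊤ := by
  have := hG.2.1
  exact hN.eq_bot_or_eq_top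

omit [Finite G] in
theorem normalizer_ne_top (hG : IsMinSimpleOddOrder G) {Q : Subgroup G} (hQ1 : Q ≠ ⊥)
    (hQs : Group.IsSolvable Q) : Subgroup.normalizer (Q : Set G) ≠ ⊤ := by
  intro h
  rcases normal_eq hG (Subgroup.normalizer_eq_top_iff.1 h) with h1 | h1
  · exact hQ1 h1
  · apply not_isSolvable hG
    rw [h1] at hQs
    exact Group.isSolvable_of_surjective (f := (⊤ : Subgroup G).subtype)
      (fun g => ⟨⟨g, Subgroup.mem_top g⟩, rfl⟩)

omit [Finite G] in
theorem odd_prime (hG : IsMinSimpleOddOrder G) {r : ℕ} (hr : r ∣ Nat.card G) : r ≠ 2 := by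
  rintro rfl
  exact (Nat.not_even_iff_odd.2 hG.1) (even_iff_two_dvd.2 hr)

theorem rIsolated_of_maxNil (hCN : IsCNGroup G) (r : ℕ) [hr : Fact r.Prime] (P : Sylow r G)
    (hP : MaxNil (P : Subgroup G)) : RIsolated r G := by
  intro x y hx1 ⟨k, hk⟩ hy hxy
  obtain ⟨H', hH', hle⟩ := exists_maxNil (hCN x hx1)
  have hxH : x ∈ H' := hle (Subgroup.mem_centralizer_singleton_iff.2 rfl)
  have hyH : y ∈ H' := hle (Subgroup.mem_centralizer_singleton_iff.2 hxy.symm)
  have hdvd : r ∣ Nat.card H' := by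
    have h1 : orderOf x ∣ Nat.card H' := by
      have := orderOf_dvd_natCard (⟨x, hxH⟩ : H')
      rwa [Subgroup.orderOf_mk] at this
    refine Dvd.dvd.trans ?_ h1
    rw [hk]
    apply dvd_pow_self
    rintro rfl
    rw [pow_zero, orderOf_eq_one_iff] at hk
    exact hx1 hk
  rcases conj_or_coprime hCN hP hH' with ⟨g, hg⟩ | hc
  · have hpg : IsPGroup r H' := by
      rw [hg]
      exact P.isPGroup'.map _
    exact eq_one_of_orderOf_pow_coprime (orderOf_of_mem_isPGroup hpg hyH) hy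
  · exfalso
    have hP1 : r ∣ Nat.card (P : Subgroup G) := by
      have h1 : r ∣ Nat.card G := hdvd.trans (Subgroup.card_subgroup_dvd_card H')
      exact P.dvd_card_of_dvd_card h1
    exact hr.out.one_lt.ne' (Nat.eq_one_of_dvd_coprimes hc hP1 hdvd)

/-- the local hypotheses of S0658 -/
theorem local_hyp (hG : IsMinSimpleOddOrder G) (r : ℕ) [hr : Fact r.Prime]
    (hiso : RIsolated r G) (Q : Subgroup G) (hQ : IsPGroup r Q) (hQ1 : Q ≠ ⊥) :
    pPrimeCore r ↥(Subgroup.normalizer (Q : Set G)) = ⊥ ∧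
      IsPConstrained r ↥(Subgroup.normalizer (Q : Set G)) ∧
      IsPStable r ↥(Subgroup.normalizer (Q : Set G)) := by
  have hNtop : Subgroup.normalizer (Q : Set G) ≠ ⊤ := normalizer_ne_top hG hQ1
    (by have := hQ.isNilpotent; infer_instance)
  have hsol : Group.IsSolvable ↥(Subgroup.normalizer (Q : Set G)) := solvable_of_ne_top hG hNtop
  have hodd := odd_card_subgroup hG (Subgroup.normalizer (Q : Set G))
  obtain ⟨⟨x, hx⟩, hx1⟩ := (Subgroup.ne_bot_iff_exists_ne_one).1 hQ1
  have hx1' : x ≠ 1 := fun h => hx1 (Subtype.ext h)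
  have hQn : (Q.subgroupOf (Subgroup.normalizer (Q : Set G))).Normal :=
    Subgroup.normal_in_normalizer
  have hQp : IsPGroup r (Q.subgroupOf (Subgroup.normalizer (Q : Set G))) :=
    hQ.comap_of_injective _ (Subgroup.subtype_injective _)
  have hQle := Cfsg.Agent.Lib.Lead.le_pCore hQn hQp
  have hxN : x ∈ Subgroup.normalizer (Q : Set G) := Subgroup.le_normalizer hx
  have hxc : (⟨x, hxN⟩ : ↥(Subgroup.normalizer (Q : Set G))) ∈
      pCore r ↥(Subgroup.normalizer (Q : Set G)) := hQle (Subgroup.mem_subgroupOf.2 hx)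
  have hSC : Cfsg.Agent.Lib.Helper54.SelfCentPCore r ↥(Subgroup.normalizer (Q : Set G)) := by
    apply Cfsg.Agent.Lib.Helper54.selfCentPCore_of_coprime
    intro d hd hdc
    have h1 := hdc _ hxc
    have h2 : (d : G) * x * (d : G)⁻¹ = x := congrArg Subtype.val h1
    apply Subtype.ext
    apply hiso x d hx1' (orderOf_of_mem_isPGroup hQ hx) (by rwa [Subgroup.orderOf_coe])
    calc x * (d : G) = ((d : G) * x * (d : G)⁻¹) * d := by rw [h2]
      _ = d * x := by group
  have hr2 : r ≠ 2 := by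
    apply odd_prime hG
    obtain ⟨k, hk⟩ := orderOf_of_mem_isPGroup hQ hx
    have h1 : orderOf x ∣ Nat.card G := orderOf_dvd_natCard x
    refine Dvd.dvd.trans ?_ h1
    rw [hk]
    apply dvd_pow_self
    rintro rfl
    rw [pow_zero, orderOf_eq_one_iff] at hk
    exact hx1' hk
  refine ⟨hSC.pPrimeCore_eq_bot, hSC.isPConstrained, hr.out.odd_of_ne_two hr2, ?_, ?_⟩
  · intro h
    rw [h] at hxc
    exact hx1' (congrArg Subtype.val (Subgroup.mem_bot.1 hxc))
  · intro A P hA hP hAP _ hPn hquad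
    exact Cfsg.Agent.S1464.result hodd r hr2 P A hP hPn hA
      (fun a ha => Cfsg.Agent.Lib.Helper11.mem_normalizer_of_conj_mem (fun x hx => hAP a ha x hx))
      hquad

/-- `N_G(Z(J(P)))` contains all `r`-local subgroups meeting `P`. -/
theorem normalizer_le_M (hG : IsMinSimpleOddOrder G) (r : ℕ) [hr : Fact r.Prime]
    (hiso : RIsolated r G) (hrG : r ∣ Nat.card G) (P : Sylow r G) (Q : Subgroup G)
    (hQP : Q ≤ (P : Subgroup G)) (hQ1 : Q ≠ ⊥) :
    Subgroup.normalizer (Q : Set G) ≤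
      Subgroup.normalizer (centerThompsonAOf (P : Subgroup G) : Set G) :=
  Cfsg.Agent.S0658.result (odd_prime hG hrG) (fun Q hQ hQ1 => local_hyp hG r hiso Q hQ hQ1) P Q hQP
    hQ1


omit [Finite G] in
theorem mem_map_conj {H : Subgroup G} {m z : G} :
    z ∈ H.map (MulAut.conj m).toMonoidHom ↔ m⁻¹ * z * m ∈ H := by
  constructor
  · rintro ⟨y, hy, rfl⟩
    simp only [MulEquiv.coe_toMonoidHom, MulAut.conj_apply]
    have : m⁻¹ * (m * y * m⁻¹) * m = y := by group
    rw [this]
    exact hy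
  · intro h
    refine ⟨m⁻¹ * z * m, h, ?_⟩
    simp only [MulEquiv.coe_toMonoidHom, MulAut.conj_apply]
    group

/-- A subgroup containing all normalizers of nontrivial subgroups of the Sylow subgroup `P`
controls fusion in the strongest sense. -/
theorem mem_of_conj_mem_sylow (r : ℕ) [hr : Fact r.Prime] (P : Sylow r G) (M : Subgroup G)
    (hM : ∀ Q : Subgroup G, Q ≤ (P : Subgroup G) → Q ≠ ⊥ → Subgroup.normalizer (Q : Set G) ≤ M)
    (g x : G) (hx1 : x ≠ 1) (hxP : x ∈ (P : Subgroup G)) (hgx : g * x * g⁻¹ ∈ (P : Subgroup G)) :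
    g ∈ M := by
  have hP1 : (P : Subgroup G) ≠ ⊥ := by
    intro h
    rw [h] at hxP
    exact hx1 (Subgroup.mem_bot.1 hxP)
  have hNP : Subgroup.normalizer ((P : Subgroup G) : Set G) ≤ M := hM P le_rfl hP1
  have hPM : (P : Subgroup G) ≤ M := Subgroup.le_normalizer.trans hNP
  have hM' : ∀ m ∈ M, ∀ Q : Subgroup G, Q ≤ (P : Subgroup G).map (MulAut.conj m).toMonoidHom →
      Q ≠ ⊥ → Subgroup.normalizer (Q : Set G) ≤ M := by
    intro m hm Q hQ hQ1 n hn
    have h1 : Q.map (MulAut.conj m⁻¹).toMonoidHom ≤ (P : Subgroup G) := by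
      intro z hz
      rw [mem_map_conj, inv_inv] at hz
      have := mem_map_conj.1 (hQ hz)
      have e : m⁻¹ * (m * z * m⁻¹) * m = z := by group
      rwa [e] at this
    have h2 : Q.map (MulAut.conj m⁻¹).toMonoidHom ≠ ⊥ := by
      intro h
      exact hQ1 ((Subgroup.map_eq_bot_iff_of_injective _ (MulAut.conj m⁻¹).injective).1 h)
    have h3 : m⁻¹ * n * m ∈ Subgroup.normalizer ((Q.map (MulAut.conj m⁻¹).toMonoidHom : Subgroup G) : Set G) := by
      apply Cfsg.Agent.Lib.Helper11.mem_normalizer_of_conj_mem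
      intro a ha
      rw [mem_map_conj, inv_inv] at ha ⊢
      have h4 := (Subgroup.mem_normalizer_iff.1 hn _).1 ha
      have e : m * (m⁻¹ * n * m * a * (m⁻¹ * n * m)⁻¹) * m⁻¹ = n * (m * a * m⁻¹) * n⁻¹ := by group
      rw [e]
      exact h4
    have h5 := hM _ h1 h2 h3
    have e : n = m * (m⁻¹ * n * m) * m⁻¹ := by group
    rw [e]
    exact M.mul_mem (M.mul_mem hm h5) (M.inv_mem hm)
  obtain ⟨P', hP'⟩ : ∃ P' : Subgroup G, P' = (P : Subgroup G).map (MulAut.conj g⁻¹).toMonoidHom :=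
    ⟨_, rfl⟩
  have hP'p : IsPGroup r P' := by rw [hP']; exact P.isPGroup'.map _
  have hxP' : x ∈ P' := by
    rw [hP', mem_map_conj, inv_inv]; exact hgx
  obtain ⟨m, hmax⟩ := Finite.exists_max (fun m : M =>
    Nat.card ↥(P' ⊓ (P : Subgroup G).map (MulAut.conj (m : G)).toMonoidHom))
  have hD1 : P' ⊓ (P : Subgroup G).map (MulAut.conj (m : G)).toMonoidHom ≠ ⊥ := by
    intro h
    have h1 := hmax 1
    simp only [h, Subgroup.card_bot] at h1
    have h2 : (P' ⊓ (P : Subgroup G).map (MulAut.conj ((1 : M) : G)).toMonoidHom) = ⊥ :=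
      Subgroup.card_eq_one.1 (le_antisymm h1 Nat.card_pos)
    apply hx1
    rw [← Subgroup.mem_bot, ← h2]
    refine Subgroup.mem_inf.2 ⟨hxP', ?_⟩
    rw [mem_map_conj]
    simpa using hxP
  have hDeq : P' ⊓ (P : Subgroup G).map (MulAut.conj (m : G)).toMonoidHom = P' := by
    by_contra hne
    have hlt : P' ⊓ (P : Subgroup G).map (MulAut.conj (m : G)).toMonoidHom < P' :=
      lt_of_le_of_ne inf_le_left hne
    have h1 := Cfsg.Agent.S0658.lt_inf_normalizer hP'p hlt
    have h2 := hM' m m.2 _ inf_le_right hD1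
    obtain ⟨h, hhM, hh⟩ := Cfsg.Agent.S0658.exists_map_conj_le_sylow_of_le' P hPM
      (inf_le_right.trans h2) (hP'p.to_le inf_le_left)
    have h3 : P' ⊓ Subgroup.normalizer
        ((P' ⊓ (P : Subgroup G).map (MulAut.conj (m : G)).toMonoidHom : Subgroup G) : Set G) ≤
        P' ⊓ (P : Subgroup G).map (MulAut.conj ((⟨h⁻¹, M.inv_mem hhM⟩ : M) : G)).toMonoidHom := by
      refine le_inf inf_le_left ?_
      intro z hz
      rw [mem_map_conj, inv_inv]
      apply hh
      exact ⟨z, hz, by simp⟩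
    have h4 := Cfsg.Agent.S0658.card_lt_of_lt' (lt_of_lt_of_le h1 h3)
    exact absurd (hmax ⟨h⁻¹, M.inv_mem hhM⟩) (not_le_of_gt h4)
  have hle : P' ≤ (P : Subgroup G).map (MulAut.conj (m : G)).toMonoidHom := by
    rw [← hDeq]; exact inf_le_right
  have heq : P' = (P : Subgroup G).map (MulAut.conj (m : G)).toMonoidHom := by
    apply Subgroup.eq_of_le_of_card_ge hle
    rw [hP', Subgroup.card_map_of_injective (MulAut.conj _).injective,
      Subgroup.card_map_of_injective (MulAut.conj _).injective]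
  have hn : (m : G)⁻¹ * g⁻¹ ∈ Subgroup.normalizer ((P : Subgroup G) : Set G) := by
    apply Cfsg.Agent.Lib.Helper11.mem_normalizer_of_conj_mem
    intro a ha
    have h1 : g⁻¹ * a * g ∈ P' := by
      rw [hP', mem_map_conj, inv_inv]
      have e : g * (g⁻¹ * a * g) * g⁻¹ = a := by group
      rw [e]; exact ha
    rw [heq, mem_map_conj] at h1
    have e : (m : G)⁻¹ * g⁻¹ * a * ((m : G)⁻¹ * g⁻¹)⁻¹ = (m : G)⁻¹ * (g⁻¹ * a * g) * m := by group
    rw [e]
    exact h1
  have h6 := hNP hn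
  have e : g = ((m : G) * ((m : G)⁻¹ * g⁻¹))⁻¹ := by group
  rw [e]
  exact M.inv_mem (M.mul_mem m.2 h6)


/-- sharper form of the trichotomy -/
theorem cn_dichotomy {X : Type*} [Group X] [Finite X] [Group.IsSolvable X] (hCN : IsCNGroup X)
    (hnil : ¬ Group.IsNilpotent X) :
    (∃ (p : ℕ) (_ : Fact p.Prime) (P : Sylow p X), (P : Subgroup X) ≠ ⊥ ∧ (P : Subgroup X).Normal) ∨
      ∃ p : ℕ, p.Prime ∧ IsThreeStepGroup p X := by
  by_cases hA : ∃ (p : ℕ) (_ : Fact p.Prime) (P : Sylow p X),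
      (P : Subgroup X) ≠ ⊥ ∧ (P : Subgroup X).Normal
  · exact Or.inl hA
  · right
    have hnt : Nontrivial X := by
      by_contra h
      rw [not_nontrivial_iff_subsingleton] at h
      exact hnil inferInstance
    obtain ⟨p, N, hp, hNn, hN1, hNp, -, -⟩ :=
      Cfsg.Agent.Lib.Helper1.exists_normal_pSubgroup_of_solvable (G := X)
    have hpF : Fact p.Prime := ⟨hp⟩
    have hH1 : pCore p X ≠ ⊥ := by
      intro h
      apply hN1
      rw [eq_bot_iff, ← h]
      exact Cfsg.Agent.Lib.Lead.le_pCore hNn hNp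
    obtain ⟨P⟩ : Nonempty (Sylow p X) := inferInstance
    have hHP : pCore p X ≤ P := Cfsg.Agent.Lib.Lead.pCore_le_sylow P
    have hP1 : (P : Subgroup X) ≠ ⊥ := fun h => hH1 (by rw [eq_bot_iff, ← h]; exact hHP)
    have hcore : ∀ q : ℕ, q.Prime → q ≠ p → pCore q X = ⊥ := by
      intro q hq hqp
      by_contra hne
      have : Fact q.Prime := ⟨hq⟩
      exact hA ⟨p, hpF, P, hP1,
        Cfsg.Agent.S1476.sylow_normal_of_two_cores hCN p q hqp.symm hH1 hne P⟩
    have hF : fittingSubgroup X = pCore p X := by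
      rw [Cfsg.Agent.Lib.Helper1.fittingSubgroup_eq_iSup_pCore]
      apply le_antisymm
      · refine iSup_le fun q => ?_
        by_cases hqp : (q : ℕ) = p
        · rw [hqp]
        · rw [hcore q q.2 hqp]; exact bot_le
      · exact le_iSup (fun q : Nat.Primes => pCore (q : ℕ) X) ⟨p, hp⟩
    have hCH : Subgroup.centralizer (pCore p X : Set X) ≤ pCore p X := by
      have := Cfsg.Agent.S0044.result (G := X)
      rwa [hF] at this
    have hHtop : pCore p X ≠ ⊤ := by
      intro h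
      apply hnil
      have h1 : IsPGroup p X := Cfsg.Agent.Lib.Lead.pCore_eq_top_iff.1 h
      exact h1.isNilpotent
    obtain ⟨g₀, hg₀P, hg₀H⟩ : ∃ g₀ ∈ (P : Subgroup X), g₀ ∉ pCore p X := by
      by_contra hcon
      simp only [not_exists, not_and, not_not] at hcon
      have heq : (P : Subgroup X) = pCore p X := le_antisymm hcon hHP
      exact hA ⟨p, hpF, P, hP1, by rw [heq]; infer_instance⟩
    obtain ⟨t, ht1, htp, hfrat⟩ := Cfsg.Agent.S1476.exists_t hCN p hH1 hCH hHtop
    exact ⟨p, hp, threeStep_of_data hCN p hH1 hCH g₀ (orderOf_of_mem_isPGroup P.isPGroup' hg₀P)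
      hg₀H t ht1 htp hfrat⟩

/-- In a minimal simple CN-group of odd order, if `r` is isolated then a Sylow `r`-subgroup `P`
is normal in `N_G(Z(J(P)))`. -/
theorem sylow_normal_in_M (hG : IsMinSimpleOddOrder G) (hCN : IsCNGroup G) (r : ℕ)
    [hr : Fact r.Prime] (hiso : RIsolated r G) (hrG : r ∣ Nat.card G) (P : Sylow r G) :
    ∀ m ∈ Subgroup.normalizer (centerThompsonAOf (P : Subgroup G) : Set G),
      ∀ x ∈ (P : Subgroup G), m * x * m⁻¹ ∈ (P : Subgroup G) := by
  have hP1 : (P : Subgroup G) ≠ ⊥ := P.ne_bot_of_dvd_card hrG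
  have hZ1 : centerThompsonAOf (P : Subgroup G) ≠ ⊥ :=
    Cfsg.Agent.S0658.centerThompsonAOf_ne_bot P.isPGroup' hP1
  have hZp : IsPGroup r (centerThompsonAOf (P : Subgroup G)) :=
    P.isPGroup'.to_le (Cfsg.Agent.S0658.centerThompsonAOf_le _)
  obtain ⟨M, hMdef⟩ : ∃ M : Subgroup G,
      M = Subgroup.normalizer (centerThompsonAOf (P : Subgroup G) : Set G) := ⟨_, rfl⟩
  have hloc := local_hyp hG r hiso _ hZp hZ1
  have hSE := normalizer_le_M hG r hiso hrG P
  have hMtop : Subgroup.normalizer (centerThompsonAOf (P : Subgroup G) : Set G) ≠ ⊤ :=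
    normalizer_ne_top hG hZ1 (by have := hZp.isNilpotent; infer_instance)
  rw [← hMdef] at hloc hSE hMtop ⊢
  have hsol : Group.IsSolvable M := solvable_of_ne_top hG hMtop
  have hCNM : IsCNGroup M := Cfsg.Agent.S1474.isCNGroup_subgroup hCN M
  have hPM : (P : Subgroup G) ≤ M := Subgroup.le_normalizer.trans (hSE P le_rfl hP1)
  suffices hn : ((P.subtype hPM : Sylow r M) : Subgroup M).Normal by
    intro m hm x hx
    have h1 := hn.conj_mem ⟨x, hPM hx⟩ (by
      rw [Sylow.coe_subtype, Subgroup.mem_subgroupOf]; exact hx) ⟨m, hm⟩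
    rw [Sylow.coe_subtype, Subgroup.mem_subgroupOf] at h1
    exact h1
  by_cases hnil : Group.IsNilpotent M
  · infer_instance
  rcases cn_dichotomy hCNM hnil with ⟨q, hq, Q, hQ1, hQn⟩ | ⟨p', hp', h3⟩
  · by_cases hqr : q = r
    · subst hqr
      have := Sylow.unique_of_normal Q hQn
      rw [Subsingleton.elim (P.subtype hPM) Q]
      exact hQn
    · exfalso
      apply hQ1
      rw [eq_bot_iff, ← hloc.1]
      apply Cfsg.Agent.Lib.Lead.le_pPrimeCore hQn
      obtain ⟨k, hk⟩ := IsPGroup.iff_card.1 Q.isPGroup'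
      rw [hk]
      exact Nat.Coprime.pow_left k ((Nat.coprime_primes hq.out hr.out).2 hqr)
  · exfalso
    have hp'F : Fact p'.Prime := ⟨hp'⟩
    obtain ⟨hc1, A, -, -, -, -, hNn, hNtop, ⟨n, hidx⟩, -, -⟩ := h3
    have hp'r : p' = r := by
      by_contra hne
      apply hc1
      rw [eq_bot_iff, ← hloc.1]
      apply Cfsg.Agent.Lib.Lead.le_pPrimeCore inferInstance
      obtain ⟨k, hk⟩ := IsPGroup.iff_card.1 (Cfsg.Agent.Lib.Lead.pCore_isPGroup p' M)
      rw [hk]
      exact Nat.Coprime.pow_left k ((Nat.coprime_primes hp' hr.out).2 hne)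
    subst hp'r
    have hquot : IsPGroup p' (M ⧸ (pCore p' M ⊔ A)) := by
      apply IsPGroup.of_card (n := n)
      rw [← Subgroup.index_eq_card, hidx]
    have hres := Cfsg.Agent.Lib.Lead.pResidual_le_of_isPGroup_quotient hquot
    have hctl := Cfsg.Agent.Lib.Helper2.inf_pResidual_eq_of_control P M hPM (by
      intro x hx g hgx
      by_cases hx1 : x = 1
      · exact ⟨1, M.one_mem, by rw [hx1]; group⟩
      · exact ⟨g, mem_of_conj_mem_sylow p' P M hSE g x hx1 hx hgx, rfl⟩)
    have hGres : pResidual p' G = ⊤ := by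
      rcases normal_eq hG (inferInstance : (pResidual p' G).Normal) with h | h
      · exfalso
        obtain ⟨k, hk⟩ := Cfsg.Agent.Lib.Lead.index_pResidual (p := p') (G := G)
        rw [h, Subgroup.index_bot] at hk
        exact not_isNilpotent hG (IsPGroup.of_card hk).isNilpotent
      · exact h
    rw [hGres, inf_top_eq] at hctl
    have hPN : ((P.subtype hPM : Sylow p' M) : Subgroup M) ≤ pCore p' M ⊔ A := by
      intro x hx
      rw [Sylow.coe_subtype, Subgroup.mem_subgroupOf] at hx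
      rw [hctl] at hx
      obtain ⟨y, hy, hyx⟩ := hx.2
      have : y = x := Subtype.ext hyx
      rw [← this]
      exact hres hy
    have h1 : (pCore p' M ⊔ A).index ∣ ((P.subtype hPM : Sylow p' M) : Subgroup M).index :=
      Subgroup.index_dvd_of_le hPN
    have hn0 : n ≠ 0 := by
      rintro rfl
      rw [pow_zero] at hidx
      exact hNtop (Subgroup.index_eq_one.1 hidx)
    apply (P.subtype hPM).not_dvd_index
    refine Dvd.dvd.trans ?_ h1
    rw [hidx]
    exact dvd_pow_self _ hn0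

end Cfsg.Agent.Lib.Helper25
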