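import Cfsg.Agent.Lib.Helper25.CNMinSimple
import Cfsg.Agent.S1478
import Cfsg.Agent.S0035

/-!
# Minimal simple CN-groups of odd order: maximal nilpotent subgroups (helper25)
-/

set_option autoImplicit false
open Cfsg

namespace Cfsg.Agent.Lib.Helper25

open Cfsg.Agent.S1477 Cfsg.Agent.S1483

variable {G : Type*} [Group G] [Finite G]

omit [Finite G] in
theorem maxNil_ne_bot (hG : IsMinSimpleOddOrder G) {H : Subgroup G} (hH : MaxNil H) : H ≠ ⊥ := by
  rintro rfl
  apply not_isNilpotent hG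
  have hall : ∀ x : G, x = 1 := by
    intro x
    have h1 : Group.IsNilpotent (Subgroup.zpowers x) := by
      let _ : CommGroup (Subgroup.zpowers x) := IsCyclic.commGroup
      exact CommGroup.isNilpotent
    have h2 := hH.2 _ h1 bot_le
    exact Subgroup.zpowers_eq_bot.1 h2
  have : Subsingleton G := ⟨fun a b => by rw [hall a, hall b]⟩
  infer_instance

omit [Finite G] in
theorem maxNil_ne_top (hG : IsMinSimpleOddOrder G) {H : Subgroup G} (hH : MaxNil H) : H ≠ ⊤ := by
  rintro rfl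
  apply not_isNilpotent hG
  have := hH.1
  exact Group.nilpotent_of_mulEquiv Subgroup.topEquiv

/-- maximal nilpotent subgroups are TI -/
theorem maxNil_TI (hG : IsMinSimpleOddOrder G) (hCN : IsCNGroup G) {H : Subgroup G}
    (hH : MaxNil H) (g : G) (hg : H.map (MulAut.conj g).toMonoidHom ≠ H) :
    H ⊓ H.map (MulAut.conj g).toMonoidHom = ⊥ := by
  have hH1 := maxNil_ne_bot hG hH
  have hcard1 : Nat.card H ≠ 1 := fun h => hH1 (Subgroup.card_eq_one.1 h)
  by_cases hpp : IsPrimePow (Nat.card H)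
  · obtain ⟨r, j, hr, hj, hrj⟩ := (isPrimePow_nat_iff _).1 hpp
    have hrF : Fact r.Prime := ⟨hr⟩
    have hrH : r ∣ Nat.card H := by rw [← hrj]; exact dvd_pow_self r hj.ne'
    obtain ⟨P, hP⟩ := hall hCN hH r hrH
    have hHP : H = P := P.is_maximal' (IsPGroup.of_card hrj.symm) hP
    have hrG : r ∣ Nat.card G := hrH.trans (Subgroup.card_subgroup_dvd_card _)
    have hiso := rIsolated_of_maxNil hCN r P (hHP ▸ hH)
    rw [eq_bot_iff]
    intro x hx
    rw [Subgroup.mem_bot]
    by_contra hx1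
    apply hg
    have hx' := Subgroup.mem_inf.1 hx
    have h1 : x ∈ (P : Subgroup G) := hHP ▸ hx'.1
    have h2 : g⁻¹ * x * g⁻¹⁻¹ ∈ (P : Subgroup G) := by
      rw [inv_inv, ← hHP]
      exact mem_map_conj.1 hx'.2
    have h3 := mem_of_conj_mem_sylow r P _ (normalizer_le_M hG r hiso hrG P) g⁻¹ x hx1 h1 h2
    have h4 := sylow_normal_in_M hG hCN r hiso hrG P _ (Subgroup.inv_mem _ h3)
    rw [inv_inv] at h4
    apply Subgroup.eq_of_le_of_card_ge
    · rintro _ ⟨y, hy, rfl⟩
      rw [hHP] at hy ⊢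
      simpa using h4 y hy
    · rw [Subgroup.card_map_of_injective (MulAut.conj g).injective]
  · exact (Cfsg.Agent.S1477.result hCN H hH.1 hH.2).2.1 hpp hcard1 g hg

theorem maxNil_centralizer_le (hG : IsMinSimpleOddOrder G) (hCN : IsCNGroup G) {H : Subgroup G}
    (hH : MaxNil H) {x : G} (hx : x ∈ H) (hx1 : x ≠ 1) :
    Subgroup.centralizer ({x} : Set G) ≤ H :=
  (Cfsg.Agent.S1477.result hCN H hH.1 hH.2).2.2 (maxNil_TI hG hCN hH) x hx hx1

theorem maxNil_coprime (hCN : IsCNGroup G) {H : Subgroup G} (hH : MaxNil H) :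
    (Nat.card H).Coprime H.index := (Cfsg.Agent.S1477.result hCN H hH.1 hH.2).1

/-- an element conjugating a nonidentity element of `H` into `H` normalizes `H`. -/
theorem mem_normalizer_of_TI (hG : IsMinSimpleOddOrder G) (hCN : IsCNGroup G) {H : Subgroup G}
    (hH : MaxNil H) {g x : G} (hx : x ∈ H) (hx1 : x ≠ 1) (hgx : g * x * g⁻¹ ∈ H) :
    g ∈ Subgroup.normalizer (H : Set G) := by
  have h1 : H.map (MulAut.conj g).toMonoidHom = H := by
    by_contra hne
    have h2 := maxNil_TI hG hCN hH g hne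
    have h3 : g * x * g⁻¹ ∈ H ⊓ H.map (MulAut.conj g).toMonoidHom :=
      Subgroup.mem_inf.2 ⟨hgx, ⟨x, hx, by simp⟩⟩
    rw [h2, Subgroup.mem_bot] at h3
    apply hx1
    have : x = g⁻¹ * (g * x * g⁻¹) * g := by group
    rw [this, h3]
    group
  apply Cfsg.Agent.Lib.Helper11.mem_normalizer_of_conj_mem
  intro a ha
  rw [← h1]
  exact ⟨a, ha, by simp⟩

/-- the complement in the normalizer -/
theorem maxNil_complement (hG : IsMinSimpleOddOrder G) (hCN : IsCNGroup G) {H : Subgroup G}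
    (hH : MaxNil H) :
    ∃ E : Subgroup G, IsComplIn H E (Subgroup.normalizer (H : Set G)) ∧ E ≠ ⊥ ∧
      (Nat.card E).Coprime (Nat.card H) ∧
      ∀ e ∈ E, e ≠ 1 → H ⊓ Subgroup.centralizer ({e} : Set G) = ⊥ := by
  have hH1 := maxNil_ne_bot hG hH
  have hHtop := maxNil_ne_top hG hH
  have hHN : H ≤ Subgroup.normalizer (H : Set G) := Subgroup.le_normalizer
  have hn : (H.subgroupOf (Subgroup.normalizer (H : Set G))).Normal := Subgroup.normal_in_normalizer
  have hrel : H.relIndex (Subgroup.normalizer (H : Set G)) ∣ H.index :=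
    ⟨_, (Subgroup.relIndex_mul_index hHN).symm⟩
  have hcop : (Nat.card (H.subgroupOf (Subgroup.normalizer (H : Set G)))).Coprime
      (H.subgroupOf (Subgroup.normalizer (H : Set G))).index := by
    rw [Cfsg.Agent.Lib.Helper1.card_subgroupOf hHN]
    exact Nat.Coprime.coprime_dvd_right hrel (maxNil_coprime hCN hH)
  obtain ⟨E', hE'⟩ := Subgroup.exists_right_complement'_of_coprime hcop
  have hcardE : Nat.card E' = (H.subgroupOf (Subgroup.normalizer (H : Set G))).index :=
    (hE'.symm.index_eq_card).symm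
  have hcardE2 : (Nat.card (E'.map (Subgroup.normalizer (H : Set G)).subtype)).Coprime
      (Nat.card H) := by
    rw [Subgroup.card_map_of_injective (Subgroup.subtype_injective _), hcardE,
      ← Cfsg.Agent.Lib.Helper1.card_subgroupOf hHN]
    exact hcop.symm
  have hinf : H ⊓ E'.map (Subgroup.normalizer (H : Set G)).subtype = ⊥ :=
    (Subgroup.disjoint_of_coprime_natCard hcardE2.symm).eq_bot
  have hcompl : IsComplIn H (E'.map (Subgroup.normalizer (H : Set G)).subtype)
      (Subgroup.normalizer (H : Set G)) := by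
    refine ⟨hHN, Subgroup.map_subtype_le _, hinf, ?_⟩
    intro m hm
    obtain ⟨⟨a, b⟩, hab⟩ := hE'.2 ⟨m, hm⟩
    refine ⟨a, Subgroup.mem_subgroupOf.1 a.2, b, ⟨b, b.2, rfl⟩, ?_⟩
    exact (congrArg Subtype.val hab).symm
  refine ⟨_, hcompl, ?_, hcardE2, ?_⟩
  · intro hbot
    have hNH : Subgroup.normalizer (H : Set G) = H := by
      apply le_antisymm _ hHN
      intro m hm
      obtain ⟨a, ha, b, hb, rfl⟩ := hcompl.2.2.2 m hm
      rw [hbot, Subgroup.mem_bot] at hb
      rw [hb, mul_one]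
      exact ha
    have hfrob : IsFrobeniusComplement H := by
      refine ⟨hH1, hHtop, ?_⟩
      intro g hg
      have h1 : H.map (MulAut.conj g).toMonoidHom ≠ H := by
        intro h
        apply hg
        rw [← hNH]
        apply Cfsg.Agent.Lib.Helper11.mem_normalizer_of_conj_mem
        intro a ha
        rw [← h]
        exact ⟨a, ha, by simp⟩
      exact maxNil_TI hG hCN hH g h1
    obtain ⟨N, -, hNn, hNc⟩ := Cfsg.Agent.S0035.result H hfrob
    rcases normal_eq hG hNn with h | h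
    · rw [h] at hNc
      exact hHtop (Subgroup.isComplement'_bot_left.1 hNc)
    · rw [h] at hNc
      exact hH1 (Subgroup.isComplement'_top_left.1 hNc)
  · intro e he he1
    rw [eq_bot_iff]
    rintro h ⟨hhH, hhe⟩
    rw [Subgroup.mem_bot]
    by_contra hh1
    apply he1
    have h1 : e ∈ H := maxNil_centralizer_le hG hCN hH hhH hh1
      (Subgroup.mem_centralizer_singleton_iff.2 (Subgroup.mem_centralizer_singleton_iff.1 hhe).symm)
    rw [← Subgroup.mem_bot, ← hinf]
    exact Subgroup.mem_inf.2 ⟨h1, he⟩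

/-- for a fixed-point-free `s` normalizing `H`, every element of `H` is a commutator with `s`. -/
theorem fpf_commutator_surj (H : Subgroup G) (s : G) (hs : ∀ h ∈ H, s * h * s⁻¹ ∈ H)
    (hfpf : ∀ h ∈ H, s * h = h * s → h = 1) : ∀ h ∈ H, ∃ a ∈ H, a⁻¹ * (s * a * s⁻¹) = h := by
  let f : H → H := fun h => ⟨(h : G)⁻¹ * (s * h * s⁻¹), H.mul_mem (H.inv_mem h.2) (hs _ h.2)⟩
  have hinj : Function.Injective f := by
    intro a b hab
    have h1 : (a : G)⁻¹ * (s * a * s⁻¹) = (b : G)⁻¹ * (s * b * s⁻¹) := congrArg Subtype.val hab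
    have h2 : s * ((b : G) * (a : G)⁻¹) = ((b : G) * (a : G)⁻¹) * s := by
      have h3 : (b : G) * (a : G)⁻¹ * (s * a * s⁻¹) = s * b * s⁻¹ := by
        rw [mul_assoc, h1]; group
      calc s * ((b : G) * (a : G)⁻¹) = (s * b * s⁻¹) * (s * (a : G)⁻¹) := by group
        _ = (b : G) * (a : G)⁻¹ * (s * a * s⁻¹) * (s * (a : G)⁻¹) := by rw [h3]
        _ = ((b : G) * (a : G)⁻¹) * s := by group
    have h4 := hfpf _ (H.mul_mem b.2 (H.inv_mem a.2)) h2
    apply Subtype.ext
    exact (mul_inv_eq_one.1 h4).symm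
  have hsurj : Function.Surjective f := Finite.injective_iff_surjective.1 hinj
  intro h hh
  obtain ⟨a, ha⟩ := hsurj ⟨h, hh⟩
  exact ⟨a, a.2, congrArg Subtype.val ha⟩

theorem fittingHall_isNilpotent (X : Type*) [Group X] [Finite X] :
    Group.IsNilpotent (fittingHall X) := by
  refine isNilpotent_of_le' (B := Cfsg.fittingSubgroup X) ?_
    Cfsg.Agent.Lib.Helper1.fittingSubgroup_isNilpotent
  exact sSup_le_sSup (fun N hN => ⟨hN.1, hN.2.1⟩)

/-- the normalizer of a maximal nilpotent subgroup: `H` is its largest normal nilpotent Hall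
subgroup and the quotient is nilpotent. -/
theorem maxNil_fittingHall (hG : IsMinSimpleOddOrder G) (hCN : IsCNGroup G) {H : Subgroup G}
    (hH : MaxNil H) :
    fittingHallOf (Subgroup.normalizer (H : Set G)) = H ∧
      Group.IsNilpotent (↥(Subgroup.normalizer (H : Set G)) ⧸
        fittingHall ↥(Subgroup.normalizer (H : Set G))) := by
  have hH1 := maxNil_ne_bot hG hH
  have hHtop := maxNil_ne_top hG hH
  obtain ⟨E, hc, hE1, -, -⟩ := maxNil_complement hG hCN hH
  obtain ⟨N, hN⟩ : ∃ N : Subgroup G, N = Subgroup.normalizer (H : Set G) := ⟨_, rfl⟩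
  have hn : (H.subgroupOf N).Normal := by rw [hN]; exact Subgroup.normal_in_normalizer
  rw [← hN] at hc ⊢
  have hHN : H ≤ N := hc.1
  have hNtop : N ≠ ⊤ := by rw [hN]; exact normalizer_ne_top hG hH1 (solvable_of_ne_top hG hHtop)
  have hsol : Group.IsSolvable N := solvable_of_ne_top hG hNtop
  have hCNN : IsCNGroup N := Cfsg.Agent.S1474.isCNGroup_subgroup hCN N
  have hnn : ¬ Group.IsNilpotent N := by
    intro hnil
    have h1 := hH.2 N hnil hHN
    apply hE1
    rw [eq_bot_iff, ← hc.2.2.1]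
    exact le_inf (h1 ▸ hc.2.1) le_rfl
  have hle : H ≤ fittingHallOf N := by
    have h1 : H.subgroupOf N ≤ fittingHall N := by
      apply le_sSup
      refine ⟨hn, ?_, ?_⟩
      · have := hH.1
        exact Group.nilpotent_of_mulEquiv (Subgroup.subgroupOfEquivOfLe hHN).symm
      · rw [Cfsg.Agent.Lib.Helper1.card_subgroupOf hHN]
        have hrel : H.relIndex N ∣ H.index := ⟨_, (Subgroup.relIndex_mul_index hHN).symm⟩
        exact Nat.Coprime.coprime_dvd_right hrel (maxNil_coprime hCN hH)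
    intro x hx
    exact ⟨⟨x, hHN hx⟩, h1 (Subgroup.mem_subgroupOf.2 hx), rfl⟩
  have hnilF : Group.IsNilpotent (fittingHallOf N) := by
    have := fittingHall_isNilpotent N
    exact Group.nilpotent_of_mulEquiv
      ((fittingHall N).equivMapOfInjective N.subtype (Subgroup.subtype_injective _))
  refine ⟨hH.2 _ hnilF hle, ?_⟩
  rcases cn_dichotomy hCNN hnn with ⟨p, hp, P, hP1, hPn⟩ | ⟨p, hp, h3⟩
  · exact (Cfsg.Agent.S1474.result hCNN hnn p P hP1 hPn).2.2.2
  · exact absurd h3 (Cfsg.Agent.S1478.result hG hCN N p)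

/-- every proper nontrivial subgroup normalizes a maximal nilpotent subgroup -/
theorem exists_maxNil_le_normalizer (hG : IsMinSimpleOddOrder G) (hCN : IsCNGroup G)
    {M : Subgroup G} (hM1 : M ≠ ⊥) (hMtop : M ≠ ⊤) :
    ∃ H : Subgroup G, MaxNil H ∧ M ≤ Subgroup.normalizer (H : Set G) := by
  have hsol : Group.IsSolvable M := solvable_of_ne_top hG hMtop
  have hnt : Nontrivial M := (Subgroup.nontrivial_iff_ne_bot M).2 hM1
  obtain ⟨p, R, hp, hRn, hR1, hRp, -, -⟩ :=
    Cfsg.Agent.Lib.Helper1.exists_normal_pSubgroup_of_solvable (G := M)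
  have hpF : Fact p.Prime := ⟨hp⟩
  have hnil : Group.IsNilpotent (R.map M.subtype) := by
    have := hRp.isNilpotent
    exact Group.nilpotent_of_mulEquiv
      (R.equivMapOfInjective M.subtype (Subgroup.subtype_injective _))
  obtain ⟨H, hH, hRH⟩ := exists_maxNil hnil
  refine ⟨H, hH, ?_⟩
  obtain ⟨⟨x, hx⟩, hx1⟩ := Subgroup.ne_bot_iff_exists_ne_one.1 hR1
  have hx1' : (x : G) ≠ 1 := by
    intro h
    apply hx1
    apply Subtype.ext
    apply Subtype.ext
    exact h
  intro k hk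
  apply mem_normalizer_of_TI hG hCN hH (x := (x : G)) (hRH ⟨x, hx, rfl⟩) hx1'
  apply hRH
  exact ⟨(⟨k, hk⟩ : M) * x * (⟨k, hk⟩ : M)⁻¹, hRn.conj_mem x hx _, rfl⟩

/-- the normalizer determines the maximal nilpotent subgroup -/
theorem maxNil_eq_of_normalizer_le (hG : IsMinSimpleOddOrder G) (hCN : IsCNGroup G)
    {H K : Subgroup G} (hH : MaxNil H) (hK : MaxNil K)
    (hle : Subgroup.normalizer (H : Set G) ≤ Subgroup.normalizer (K : Set G)) : K = H := by
  obtain ⟨E, hc, hE1, hcop, hfpf⟩ := maxNil_complement hG hCN hH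
  obtain ⟨hF, hnil⟩ := maxNil_fittingHall hG hCN hK
  obtain ⟨⟨e, he⟩, he1⟩ := Subgroup.ne_bot_iff_exists_ne_one.1 hE1
  have he1' : e ≠ 1 := fun h => he1 (Subtype.ext h)
  apply hH.2 K hK.1
  intro h hh
  have heN : e ∈ Subgroup.normalizer (H : Set G) := hc.2.1 he
  obtain ⟨a, ha, rfl⟩ := fpf_commutator_surj H e
    (fun h hh => Cfsg.Agent.Lib.Helper11.conj_mem_of_mem_normalizer heN hh)
    (fun h hh hcomm => by
      have : h ∈ H ⊓ Subgroup.centralizer ({e} : Set G) :=
        Subgroup.mem_inf.2 ⟨hh, Subgroup.mem_centralizer_singleton_iff.2 hcomm.symm⟩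
      rw [hfpf e he he1'] at this
      exact Subgroup.mem_bot.1 this) h hh
  have haN : a ∈ Subgroup.normalizer (K : Set G) := hle (hc.1 ha)
  have heN' : e ∈ Subgroup.normalizer (K : Set G) := hle heN
  have hco : (orderOf a).Coprime (orderOf e) := by
    have h1 : orderOf a ∣ Nat.card H := Subgroup.orderOf_dvd_natCard H ha
    have h2 : orderOf e ∣ Nat.card E := Subgroup.orderOf_dvd_natCard E he
    exact Nat.Coprime.coprime_dvd_left h1 (Nat.Coprime.coprime_dvd_right h2 hcop.symm)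
  have hcomm := commute_of_coprime_orderOf _
    (QuotientGroup.mk' (fittingHall ↥(Subgroup.normalizer (K : Set G))) ⟨a, haN⟩)
    (QuotientGroup.mk' (fittingHall ↥(Subgroup.normalizer (K : Set G))) ⟨e, heN'⟩)
    (Nat.Coprime.coprime_dvd_left ((orderOf_map_dvd _ _).trans (by simp))
      (Nat.Coprime.coprime_dvd_right ((orderOf_map_dvd _ _).trans (by simp)) hco))
  have hmem : (⟨a, haN⟩ : ↥(Subgroup.normalizer (K : Set G)))⁻¹ *
      (⟨e, heN'⟩ * ⟨a, haN⟩ * (⟨e, heN'⟩ : ↥(Subgroup.normalizer (K : Set G)))⁻¹) ∈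
      fittingHall ↥(Subgroup.normalizer (K : Set G)) := by
    rw [← QuotientGroup.ker_mk' (fittingHall ↥(Subgroup.normalizer (K : Set G))),
      MonoidHom.mem_ker]
    simp only [map_mul, map_inv]
    rw [← hcomm.eq]
    group
  rw [← hF]
  exact ⟨_, hmem, rfl⟩

theorem maxNil_normalizer_isCoatom (hG : IsMinSimpleOddOrder G) (hCN : IsCNGroup G)
    {H : Subgroup G} (hH : MaxNil H) : IsCoatom (Subgroup.normalizer (H : Set G)) := by
  have hH1 := maxNil_ne_bot hG hH
  have hHtop := maxNil_ne_top hG hH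
  refine ⟨normalizer_ne_top hG hH1 (solvable_of_ne_top hG hHtop), ?_⟩
  intro M hM
  by_contra hMtop
  have hM1 : M ≠ ⊥ := by
    rintro rfl
    exact not_lt_bot hM
  obtain ⟨K, hK, hMK⟩ := exists_maxNil_le_normalizer hG hCN hM1 hMtop
  have := maxNil_eq_of_normalizer_le hG hCN hH hK (hM.le.trans hMK)
  rw [this] at hMK
  exact absurd hM (not_lt_of_ge hMK)

theorem exists_maxNil_of_isCoatom (hG : IsMinSimpleOddOrder G) (hCN : IsCNGroup G)
    {M : Subgroup G} (hM : IsCoatom M) :
    ∃ H : Subgroup G, MaxNil H ∧ M = Subgroup.normalizer (H : Set G) := by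
  have hM1 : M ≠ ⊥ := by
    rintro rfl
    obtain ⟨H, hH, -⟩ := exists_maxNil (G := G) (C := ⊥) inferInstance
    exact maxNil_ne_top hG hH (hM.2 H (bot_lt_iff_ne_bot.2 (maxNil_ne_bot hG hH)))
  obtain ⟨K, hK, hMK⟩ := exists_maxNil_le_normalizer hG hCN hM1 hM.1
  refine ⟨K, hK, ?_⟩
  rcases eq_or_lt_of_le hMK with h | h
  · exact h
  · exact absurd (hM.2 _ h) (maxNil_normalizer_isCoatom hG hCN hK).1

end Cfsg.Agent.Lib.Helper25
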