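import Mathlib
import Cfsg.Agent.S0001

/-!
Schur–Zassenhaus conjugacy in "ambient" form: `N, A, B ≤ G`, `A` normalizes `N`, `B ≤ NA`,
`|B| = |A|` coprime to `|N|`; then `B` is conjugate to `A` by an element of `N`.
-/

set_option autoImplicit false

namespace Cfsg.Agent.Lib.Helper25

open scoped Pointwise

variable {G : Type*} [Group G] [Finite G]

theorem sz_conj_ambient (N A B : Subgroup G) (hA : A ≤ Subgroup.normalizer (N : Set G))
    (hB : B ≤ N ⊔ A) (hcop : Nat.Coprime (Nat.card N) (Nat.card A))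
    (hcard : Nat.card B = Nat.card A) (hsolv : Group.IsSolvable N ∨ Group.IsSolvable A) :
    ∃ x ∈ N, B = A.map (MulAut.conj x).toMonoidHom := by
  set Γ : Subgroup G := N ⊔ A with hΓ
  have hNΓ : N ≤ Γ := le_sup_left
  have hAΓ : A ≤ Γ := le_sup_right
  have hΓN : Γ ≤ Subgroup.normalizer (N : Set G) := sup_le Subgroup.le_normalizer hA
  have hN' : (N.subgroupOf Γ).Normal := Subgroup.normal_subgroupOf_of_le_normalizer hΓN
  have cN : Nat.card (N.subgroupOf Γ) = Nat.card N :=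
    Nat.card_congr (Subgroup.subgroupOfEquivOfLe hNΓ).toEquiv
  have cA : Nat.card (A.subgroupOf Γ) = Nat.card A :=
    Nat.card_congr (Subgroup.subgroupOfEquivOfLe hAΓ).toEquiv
  have cB : Nat.card (B.subgroupOf Γ) = Nat.card A :=
    (Nat.card_congr (Subgroup.subgroupOfEquivOfLe hB).toEquiv).trans hcard
  have hmul : ∀ γ ∈ Γ, ∃ n ∈ N, ∃ a ∈ A, γ = n * a := by
    intro γ hγ
    rw [← SetLike.mem_coe, hΓ, Subgroup.coe_mul_of_right_le_normalizer_left _ _ hA] at hγ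
    obtain ⟨n, hn, a, ha, h⟩ := hγ
    exact ⟨n, hn, a, ha, h.symm⟩
  have hcA : Subgroup.IsComplement' (N.subgroupOf Γ) (A.subgroupOf Γ) := by
    apply Subgroup.isComplement'_of_disjoint_and_mul_eq_univ
    · apply Subgroup.disjoint_of_coprime_natCard
      rw [cN, cA]; exact hcop
    · rw [Set.eq_univ_iff_forall]
      intro γ
      obtain ⟨n, hn, a, ha, h⟩ := hmul γ.1 γ.2
      exact ⟨⟨n, hNΓ hn⟩, hn, ⟨a, hAΓ ha⟩, ha, Subtype.ext h.symm⟩
  have hcardΓ := hcA.card_mul_card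
  have hcB : Subgroup.IsComplement' (N.subgroupOf Γ) (B.subgroupOf Γ) := by
    apply Subgroup.isComplement'_of_coprime
    · rw [cB, ← cA]; exact hcardΓ
    · rw [cN, cB]; exact hcop
  have hidx : (N.subgroupOf Γ).index = Nat.card A := by
    rw [hcA.symm.index_eq_card, cA]
  have hsolv' : Group.IsSolvable (N.subgroupOf Γ) ∨ Group.IsSolvable (Γ ⧸ N.subgroupOf Γ) := by
    rcases hsolv with h | h
    · left
      exact Group.isSolvable_of_isSolvable_injective (f := (Subgroup.subgroupOfEquivOfLe hNΓ).toMonoidHom)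
        (Subgroup.subgroupOfEquivOfLe hNΓ).injective
    · right
      have e1 : Γ ⧸ N.subgroupOf Γ ≃* A.subgroupOf Γ := hcA.symm.QuotientMulEquiv
      have e2 := e1.trans (Subgroup.subgroupOfEquivOfLe hAΓ)
      exact Group.isSolvable_of_isSolvable_injective (f := e2.toMonoidHom) e2.injective
  obtain ⟨g, hg⟩ := Cfsg.Agent.S0001.result (N.subgroupOf Γ) (by rw [cN, hidx]; exact hcop) hsolv'
    (A.subgroupOf Γ) (B.subgroupOf Γ) hcA hcB
  obtain ⟨n, hn, a, ha, hga⟩ := hmul g.1 g.2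
  refine ⟨n, hn, ?_⟩
  ext y
  constructor
  · intro hy
    have hy' : (⟨y, hB hy⟩ : Γ) ∈ B.subgroupOf Γ := hy
    rw [← hg, Subgroup.mem_pointwise_smul_iff_inv_smul_mem] at hy'
    have h1 : (g⁻¹ * ⟨y, hB hy⟩ * g : Γ) ∈ A.subgroupOf Γ := by
      simpa [MulAut.smul_def, MulAut.conj_apply] using hy'
    have h2 : g.1⁻¹ * y * g.1 ∈ A := h1
    rw [hga] at h2
    refine ⟨n⁻¹ * y * n, ?_, ?_⟩
    · have h3 := A.mul_mem (A.mul_mem ha h2) (A.inv_mem ha)
      have h4 : a * ((n * a)⁻¹ * y * (n * a)) * a⁻¹ = n⁻¹ * y * n := by group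
      rw [h4] at h3
      exact h3
    · simp [MulAut.conj_apply, mul_assoc]
  · rintro ⟨z, hz, rfl⟩
    have hz' : (⟨a⁻¹ * z * a, hAΓ (A.mul_mem (A.mul_mem (A.inv_mem ha) hz) ha)⟩ : Γ) ∈ A.subgroupOf Γ :=
      A.mul_mem (A.mul_mem (A.inv_mem ha) hz) ha
    have h1 := Subgroup.smul_mem_pointwise_smul _ (MulAut.conj g) _ hz'
    rw [hg] at h1
    have h2 : g.1 * (a⁻¹ * z * a) * g.1⁻¹ ∈ B := by
      simpa [MulAut.smul_def, MulAut.conj_apply, Subgroup.mem_subgroupOf] using h1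
    rw [hga] at h2
    have h3 : n * a * (a⁻¹ * z * a) * (n * a)⁻¹ = n * z * n⁻¹ := by group
    rw [h3] at h2
    simpa [MulAut.conj_apply] using h2

end Cfsg.Agent.Lib.Helper25
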