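/-
Helper library (helper25): Bender–Glauberman Theorem 11.7: for an exceptional maximal subgroup `M`
(`Exc M p A A₀`), the subgroup `M_σ A` is normal in `M`.  The auxiliary lemmas P1-P16 were
formalized by helper88, helper49, helper96, helper68.
-/
import Cfsg.Agent.Lib.Helper31.BG11Ifc
import Cfsg.Agent.Lib.Helper31.BG11a
import Cfsg.Agent.Lib.Helper72.HH5
import Cfsg.Agent.Lib.Helper72.CoprimeC
import Cfsg.Agent.Lib.Helper88.BG11P1
import Cfsg.Agent.Lib.Helper49.BG11Abel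
import Cfsg.Agent.Lib.Helper49.BG11P8
import Cfsg.Agent.Lib.Helper96.BG11P12
import Cfsg.Agent.Lib.Helper96.BG11P16
import Cfsg.Agent.Lib.Helper68.BG11P7s

set_option autoImplicit false
set_option linter.unusedSimpArgs false
set_option linter.unusedVariables false
set_option linter.style.haveILetI false
set_option linter.unusedSectionVars false

namespace Cfsg.Agent.Lib.Helper25.BG11

open Subgroup Cfsg
open scoped commutatorElement
open Cfsg.Agent.Lib
open Cfsg.Agent.Lib.Helper24 Cfsg.Agent.Lib.Helper34 Cfsg.Agent.Lib.Helper31.BG11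

universe u


variable {G : Type u} [Group G] [Finite G]

/-! ### generalities -/

theorem normalizer_le_normalizer_omega {P A : Subgroup G} {p : ℕ} (hAP : A ≤ P)
    (hΩ : ∀ x ∈ P, x ^ p = 1 ↔ x ∈ A) : normalizer (P : Set G) ≤ normalizer (A : Set G) := by
  rw [le_normalizer_iff]
  intro g hg a ha
  have h1 : g * a * g⁻¹ ∈ P := (mem_normalizer_iff.1 hg a).1 (hAP ha)
  rw [← hΩ _ h1, conj_pow, (hΩ a (hAP ha)).2 ha]
  simp

theorem sup_eq_of_card {p : ℕ} (hp : p.Prime) {A X₁ X₂ : Subgroup G} (hA : Nat.card A = p ^ 2)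
    (h1 : X₁ ≤ A) (h2 : X₂ ≤ A) (c1 : Nat.card X₁ = p) (c2 : Nat.card X₂ = p) (hne : X₁ ≠ X₂) :
    X₁ ⊔ X₂ = A := by
  have hle : X₁ ⊔ X₂ ≤ A := sup_le h1 h2
  have hd : Nat.card (X₁ ⊔ X₂ : Subgroup G) ∣ p ^ 2 := hA ▸ card_dvd_of_le hle
  obtain ⟨k, hk, hc⟩ := (Nat.dvd_prime_pow hp).1 hd
  have hk1 : k ≠ 0 := by
    rintro rfl
    have := card_le_of_le (le_sup_left : X₁ ≤ X₁ ⊔ X₂)
    rw [hc, c1, pow_zero] at this
    exact absurd hp.one_lt (not_lt.2 this)
  have hk2 : k ≠ 1 := by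
    rintro rfl
    rw [pow_one] at hc
    have e1 : X₁ = X₁ ⊔ X₂ := eq_of_le_of_card_ge le_sup_left (by rw [hc, c1])
    have e2 : X₂ = X₁ ⊔ X₂ := eq_of_le_of_card_ge le_sup_right (by rw [hc, c2])
    exact hne (e1.trans e2.symm)
  have hk3 : k = 2 := by omega
  subst hk3
  exact eq_of_le_of_card_ge hle (by rw [hc, hA])

theorem le_normalizer_centralizer {M H : Subgroup G} (h : M ≤ normalizer (H : Set G)) :
    M ≤ normalizer ((centralizer (H : Set G) : Subgroup G) : Set G) := by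
  have := Helper22.le_normalizer_inf_centralizer (A := M) (K := ⊤) (B := H)
    (by rw [normalizer_eq_top (H := (⊤ : Subgroup G))]; exact le_top) h
  simpa using this

theorem le_normalizer_of_nilpotent {C S : Subgroup G} {q : ℕ} [Fact q.Prime]
    (hC : Group.IsNilpotent C) (hS : IsSylowIn q S C) : C ≤ normalizer (S : Set G) := by
  have h1 : (hS.toSylow : Subgroup C).Normal :=
    Sylow.normal_of_normalizerCondition Group.normalizerCondition_of_isNilpotent _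
  rw [hS.coe_toSylow] at h1
  exact (normal_subgroupOf_iff_le_normalizer hS.1).1 h1

theorem mem_of_sq_mem (hodd : Odd (Nat.card G)) {M : Subgroup G} {g : G} (h : g * g ∈ M) : g ∈ M := by
  have h1 : Odd (orderOf g) := Odd.of_dvd_nat hodd (orderOf_dvd_natCard g)
  obtain ⟨k, hk⟩ := h1
  have h2 : (g * g) ^ (k + 1) = g := by
    rw [← pow_two, ← pow_mul]
    have : 2 * (k + 1) = orderOf g + 1 := by omega
    rw [this, pow_succ, pow_orderOf_eq_one, one_mul]
  rw [← h2]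
  exact pow_mem h _

theorem nilpotent_comm_inf_cent (hG : IsMinSimpleOddOrder G) (hU : UT G) {M : Subgroup G}
    (hM : IsCoatom M) :
    Group.IsNilpotent ↥(⁅M, M⁆ ⊓ centralizer (sigmaCore M : Set G)) := by
  obtain ⟨C₁, hC⟩ : ∃ C₁, C₁ = ⁅M, M⁆ ⊓ centralizer (sigmaCore M : Set G) := ⟨_, rfl⟩
  rw [← hC]
  have hC₁M : C₁ ≤ M := hC ▸ inf_le_left.trans (commutator_le_self M)
  have hnil := map_commutator_le_fitting hG hU hM (sigma M)
    (fun _ h => alpha_subset_sigma hG hU hM h) subset_rfl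
  have hrange : ∀ c : C₁, ((QuotientGroup.mk' (piCore (sigma M) M)).comp (Subgroup.inclusion hC₁M)) c ∈
      (commutator M).map (QuotientGroup.mk' (piCore (sigma M) M)) := by
    intro c
    refine ⟨Subgroup.inclusion hC₁M c, ?_, rfl⟩
    have h1 : (c : G) ∈ ⁅M, M⁆ := (hC ▸ c.2 : (c : G) ∈ ⁅M, M⁆ ⊓ centralizer (sigmaCore M : Set G)).1
    rw [← Subgroup.map_subtype_commutator] at h1
    obtain ⟨y, hy, hyc⟩ := h1
    have : y = Subgroup.inclusion hC₁M c := Subtype.ext hyc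
    rwa [← this]
  have := hnil
  refine Subgroup.isNilpotent_of_ker_le_center
    (((QuotientGroup.mk' (piCore (sigma M) M)).comp (Subgroup.inclusion hC₁M)).codRestrict _ hrange)
    ?_
  intro c hc
  rw [MonoidHom.mem_ker] at hc
  have h1 : ((QuotientGroup.mk' (piCore (sigma M) M)).comp (Subgroup.inclusion hC₁M)) c = 1 :=
    congrArg Subtype.val hc
  rw [MonoidHom.comp_apply, QuotientGroup.mk'_apply, QuotientGroup.eq_one_iff] at h1
  have h2 : (c : G) ∈ sigmaCore M := ⟨_, h1, rfl⟩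
  rw [Subgroup.mem_center_iff]
  intro d
  have h3 : (d : G) ∈ centralizer (sigmaCore M : Set G) :=
    (hC ▸ d.2 : (d : G) ∈ ⁅M, M⁆ ⊓ centralizer (sigmaCore M : Set G)).2
  exact Subtype.ext ((mem_centralizer_iff.1 h3 c h2).symm)

theorem false_of_sigma (hG : IsMinSimpleOddOrder G) (hU : UT G) (h14 : H1414 G)
    {L A Y : Subgroup G} {p q : ℕ} [hpF : Fact p.Prime] [hqF : Fact q.Prime] (hpq : p ≠ q)
    (hL : IsCoatom L)
    (hp : p ∈ sigma L) (hA : IsPGroup p A) (hAL : A ≤ L) (hY : IsPGroup q Y) (hYL : Y ≤ L)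
    (hY1 : Y ≠ ⊥) (hYA : ⁅Y, A⁆ = Y) (hq : ¬ IsIdealPrime q G) : False := by
  have hAs : A ≤ sigmaCore L := le_sc hG hU hL hp hAL hA
  have hYs : Y ≤ sigmaCore L := by
    rw [← hYA]
    exact (commutator_mono hYL hAs).trans (le_normalizer_iff_commutator_le_right.1 (sc_norm L))
  have hqd : q ∣ Nat.card Y := by
    rcases hY.card_eq_or_dvd with h1 | h1
    · exact absurd (card_eq_one.1 h1) hY1
    · exact h1
  have hqL : q ∣ Nat.card L := hqd.trans (card_dvd_of_le hYL)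
  obtain ⟨P, N, hN, hc⟩ := h14 L hL q hqF.out hqL (fun hb => hq hb.2)
  obtain ⟨N', hN'⟩ : ∃ N', N' = N.map (sigmaCore L).subtype := ⟨_, rfl⟩
  have hle : N' ≤ sigmaCore L := hN' ▸ map_subtype_le N
  have hnorm : sigmaCore L ≤ normalizer (N' : Set G) := by
    rw [hN', le_normalizer_iff]
    rintro g hg _ ⟨k, hk, rfl⟩
    exact ⟨⟨g, hg⟩ * k * ⟨g, hg⟩⁻¹, hN.conj_mem k hk _, rfl⟩
  have hidx : N'.relIndex (sigmaCore L) = Nat.card P := by
    rw [hN', relIndex_map_subtype]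
    exact hc.symm.index_eq_card
  have hpi : ¬ p ∣ N'.relIndex (sigmaCore L) := by
    rw [hidx]
    obtain ⟨k, hk⟩ := IsPGroup.iff_card.1 P.2
    rw [hk]
    intro hd
    exact hpq ((Nat.prime_dvd_prime_iff_eq hpF.out hqF.out).1 (hpF.out.dvd_of_dvd_pow hd))
  have hAN : A ≤ N' := le_of_normal_of_not_dvd hle hnorm hpi hAs hA
  have hYN : Y ≤ N' := by
    rw [← hYA]
    exact (commutator_mono hYs hAN).trans (le_normalizer_iff_commutator_le_right.1 hnorm)
  have hcard : Nat.card N' = (P : Subgroup (sigmaCore L)).index := by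
    rw [hN', card_map_of_injective (subtype_injective _)]
    exact hc.index_eq_card.symm
  apply P.not_dvd_index
  rw [← hcard]
  exact hqd.trans (card_dvd_of_le hYN)

/-! ### the normal `q`-subgroup `W` -/

/-- the largest normal `q`-subgroup of `M` centralizing `M_σ`. -/
def Wq (M : Subgroup G) (q : ℕ) : Subgroup G :=
  piCoreOf {q} M ⊓ centralizer (sigmaCore M : Set G)

theorem Wq_le (M : Subgroup G) (q : ℕ) : Wq M q ≤ M := inf_le_left.trans (Helper23.piCoreOf_le _ _)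

theorem Wq_cent (M : Subgroup G) (q : ℕ) : Wq M q ≤ centralizer (sigmaCore M : Set G) := inf_le_right

theorem Wq_norm (M : Subgroup G) (q : ℕ) : M ≤ normalizer (Wq M q : Set G) :=
  Helper22.le_normalizer_inf_centralizer (Helper23.le_normalizer_piCoreOf _ _) (sc_norm M)

theorem Wq_pg (M : Subgroup G) (q : ℕ) [Fact q.Prime] : IsPGroup q (Wq M q) :=
  (Helper23.isPGroup_iff_primes.mp (Helper23.piCoreOf_primes _ _)).to_le inf_le_left

variable {M A A₀ : Subgroup G} {p : ℕ} [hp : Fact p.Prime]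

theorem exists_normA (h : Exc M p A A₀) (h' : ExcThm' G) :
    ∃ g ∈ normalizer (A : Set G), g ∉ M := by
  obtain ⟨P, hP, hAP⟩ := exists_isSylowIn_ge h.AM h.pg
  obtain ⟨-, hb, -⟩ := h' M p A A₀ h
  obtain ⟨-, hb2⟩ := hb hP.toSylow
  have hmap : (hP.toSylow : Subgroup M).map M.subtype = P := by
    rw [hP.coe_toSylow]; exact map_subgroupOf_eq_of_le hP.1
  rw [hmap] at hb2
  obtain ⟨hΩ, hN⟩ := hb2 hAP
  obtain ⟨g, hgP, hgM⟩ := SetLike.not_le_iff_exists.mp hN
  exact ⟨g, normalizer_le_normalizer_omega hAP hΩ hgP, hgM⟩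

theorem two_fpf (h : Exc M p A A₀) (hG : IsMinSimpleOddOrder G) (hU : UT G) (hPL : PL1 G)
    (h' : ExcThm' G) :
    ∃ X₁ X₂ : Subgroup G, X₁ ≤ A ∧ X₂ ≤ A ∧ Nat.card X₁ = p ∧ Nat.card X₂ = p ∧ X₁ ≠ X₂ ∧
      sigmaCore M ⊓ centralizer (X₁ : Set G) = ⊥ ∧ sigmaCore M ⊓ centralizer (X₂ : Set G) = ⊥ := by
  obtain ⟨g, hgA, hgM⟩ := exists_normA h h'
  have key : ∀ x ∈ normalizer (A : Set G), x ∉ M → cj x A₀ ≤ A ∧ Nat.card (cj x A₀) = p ∧
      sigmaCore M ⊓ centralizer (cj x A₀ : Set G) = ⊥ := by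
    intro x hxA hxM
    have hA1 : cj x A = A := map_conj_eq_self_of_mem_normalizer hxA
    refine ⟨?_, by rw [card_map_conj]; exact h.card₀, ?_⟩
    · rw [← hA1]; exact cj_mono x h.A₀A
    · apply h.fpf_cj hG hU hPL hxM
      rw [← hA1]; exact cj_mono x h.AM
  obtain ⟨a1, a2, a3⟩ := key g hgA hgM
  obtain ⟨b1, b2, b3⟩ := key (g * g) (mul_mem hgA hgA) (fun hh => hgM (mem_of_sq_mem hG.1 hh))
  refine ⟨_, _, a1, b1, a2, b2, ?_, a3, b3⟩
  intro he
  apply hgM
  apply h.norm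
  apply mem_normalizer_of_map_conj_eq
  have := congrArg (cj g⁻¹) he
  rw [cj_inv_cj, ← cj_cj, cj_inv_cj] at this
  exact this.symm

theorem comm_le_cent (h : Exc M p A A₀) (hG : IsMinSimpleOddOrder G) (hU : UT G) (hPL : PL1 G)
    (h' : ExcThm' G) {q : ℕ} [hq : Fact q.Prime] (hqσ : q ∉ sigma M) (hqp : q ≠ p)
    {Q : Subgroup G} (hQ : IsPGroup q Q) (hQM : Q ≤ M) (hAQ : A ≤ normalizer (Q : Set G)) :
    ⁅Q, A⁆ ≤ centralizer (sigmaCore M : Set G) := by
  obtain ⟨X₁, X₂, h1, h2, c1, c2, hne, f1, f2⟩ := two_fpf h hG hU hPL h'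
  have hnil := h.nilpotent hG hU hPL
  have hqH : ¬ q ∣ Nat.card (sigmaCore M) := fun hd => hqσ (sc_primes M hq.out hd)
  have k1 := Helper88.BG11P1.gen_centralize hG.1 hp.out hq.out hqp.symm hnil c1 hQ
    ((h1.trans h.AM).trans (sc_norm M)) (hQM.trans (sc_norm M)) (h1.trans hAQ) h.not_dvd_sc hqH f1
  have k2 := Helper88.BG11P1.gen_centralize hG.1 hp.out hq.out hqp.symm hnil c2 hQ
    ((h2.trans h.AM).trans (sc_norm M)) (hQM.trans (sc_norm M)) (h2.trans hAQ) h.not_dvd_sc hqH f2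
  have hNC := le_normalizer_centralizer (sc_norm M)
  have hA : A ≤ Helper72.trivMod (centralizer (sigmaCore M : Set G)) Q := by
    rw [← sup_eq_of_card hp.out h.card h1 h2 c1 c2 hne]
    apply sup_le
    · intro a ha
      refine ⟨hNC (h.AM (h1 ha)), fun x hx => ?_⟩
      rw [← commutatorElement_inv]
      exact inv_mem (k1 (commutator_mem_commutator hx ha))
    · intro a ha
      refine ⟨hNC (h.AM (h2 ha)), fun x hx => ?_⟩
      rw [← commutatorElement_inv]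
      exact inv_mem (k2 (commutator_mem_commutator hx ha))
  rw [commutator_le]
  intro x hx a ha
  rw [← commutatorElement_inv]
  exact inv_mem ((hA ha).2 x hx)

theorem comm_le_Wq (h : Exc M p A A₀) (hG : IsMinSimpleOddOrder G) (hU : UT G) (hPL : PL1 G)
    (h' : ExcThm' G) {q : ℕ} [hq : Fact q.Prime] (hqσ : q ∉ sigma M) (hqp : q ≠ p)
    {Q : Subgroup G} (hQ : IsPGroup q Q) (hQM : Q ≤ M) (hAQ : A ≤ normalizer (Q : Set G)) :
    ⁅Q, A⁆ ≤ Wq M q := by
  have hc := comm_le_cent h hG hU hPL h' hqσ hqp hQ hQM hAQ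
  refine le_inf ?_ hc
  have hnil := nilpotent_comm_inf_cent hG hU h.coatom
  have hle : ⁅Q, A⁆ ≤ ⁅M, M⁆ ⊓ centralizer (sigmaCore M : Set G) :=
    le_inf (commutator_mono hQM h.AM) hc
  have hMC : M ≤ normalizer ((⁅M, M⁆ ⊓ centralizer (sigmaCore M : Set G) : Subgroup G) : Set G) :=
    Helper22.le_normalizer_inf_centralizer
      (Helper72.le_normalizer_commutator le_normalizer le_normalizer) (sc_norm M)
  have hQA : ⁅Q, A⁆ ≤ Q := le_normalizer_iff_commutator_le_left.1 hAQ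
  obtain ⟨S, hS, hQS⟩ := exists_isSylowIn_ge hle (hQ.to_le hQA)
  have hCS := le_normalizer_of_nilpotent hnil hS
  refine hQS.trans (Helper23.le_piCoreOf _ (hS.1.trans (inf_le_left.trans (commutator_le_self M))) ?_
    (Helper23.isPGroup_iff_primes.mpr hS.2.1))
  rw [le_normalizer_iff]
  intro m hm s hs
  have h1 : cj m S ≤ S := by
    apply le_of_normal_of_not_dvd hS.1 hCS hS.2.2 _ (hS.2.1.map _)
    calc cj m S ≤ cj m (⁅M, M⁆ ⊓ centralizer (sigmaCore M : Set G)) := cj_mono m hS.1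
      _ = _ := map_conj_eq_self_of_mem_normalizer (hMC hm)
  exact h1 (conj_mem_map_conj hs)


/-! ### consequences of a normal subgroup of order `q` -/

theorem not_dvd_of_pg {p q : ℕ} (hp : p.Prime) (hq : q.Prime) (hpq : p ≠ q) {Q : Subgroup G}
    (hQ : IsPGroup q Q) : ¬ p ∣ Nat.card Q := by
  haveI : Fact q.Prime := ⟨hq⟩
  obtain ⟨k, hk⟩ := IsPGroup.iff_card.1 hQ
  rw [hk]
  intro hd
  exact hpq ((Nat.prime_dvd_prime_iff_eq hp hq).1 (hp.dvd_of_dvd_pow hd))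

theorem normalizer_le_of_normal (hG : IsMinSimpleOddOrder G) {M Y : Subgroup G} (hM : IsCoatom M)
    (hY1 : Y ≠ ⊥) (hYM : Y ≤ M) (hMY : M ≤ normalizer (Y : Set G)) :
    normalizer (Y : Set G) ≤ M := by
  have hYtop : Y ≠ ⊤ := ne_top_of_le_ne_top hM.1 hYM
  have hN := MS_normalizer_ne_top hG hY1 hYtop
  by_contra hcon
  exact hN (hM.2 _ (lt_of_le_of_ne hMY (fun he => hcon he.symm.le)))

theorem ne_bot_of_card_prime {q : ℕ} (hq : q.Prime) {Y : Subgroup G} (hY : Nat.card Y = q) :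
    Y ≠ ⊥ := by
  rintro rfl
  rw [card_bot] at hY
  exact hq.one_lt.ne hY

theorem exc_of_normal (hG : IsMinSimpleOddOrder G) (hU : UT G) {M Y : Subgroup G} {q : ℕ}
    [hq : Fact q.Prime] (hM : IsCoatom M) (hqσ : q ∉ sigma M) (hY : Nat.card Y = q) (hYM : Y ≤ M)
    (hMY : M ≤ normalizer (Y : Set G)) :
    normalizer (Y : Set G) ≤ M ∧ ¬ IsIdealPrime q G ∧ ∃ B, Exc M q B Y := by
  have hN := normalizer_le_of_normal hG hM (ne_bot_of_card_prime hq.out hY) hYM hMY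
  obtain ⟨-, hid, B, hB, hBc, hYB⟩ := sigma'_norm_mmax_rank2 hG hU hM hqσ hY hN
  refine ⟨hN, hid, B, hM, hqσ, ?_, hB, hBc, hYB, hY, hN⟩
  exact ((le_centralizer_of_comm hB.1 hYB).trans (centralizer_le_normalizer _)).trans hN

theorem abelian_of_exc {M B Y : Subgroup G} {q : ℕ} [Fact q.Prime] (h : Exc M q B Y)
    (h' : ExcThm' G) {T : Subgroup G} (hT : IsPGroup q T) (hTM : T ≤ M) :
    T ≤ centralizer (T : Set G) := by
  obtain ⟨S, hS, hTS⟩ := exists_isSylowIn_ge hTM hT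
  obtain ⟨-, hb, -⟩ := h' M q B Y h
  have h1 := (hb hS.toSylow).1
  rw [hS.coe_toSylow] at h1
  intro x hx
  rw [mem_centralizer_iff]
  intro y hy
  have := h1.is_comm.comm ⟨⟨y, hTM hy⟩, mem_subgroupOf.2 (hTS hy)⟩
    ⟨⟨x, hTM hx⟩, mem_subgroupOf.2 (hTS hx)⟩
  exact congrArg (fun z : ↥(S.subgroupOf M) => ((z : M) : G)) this

theorem omega_of_exc {M B Y : Subgroup G} {q : ℕ} [Fact q.Prime] (h : Exc M q B Y)
    (h' : ExcThm' G) {S : Subgroup G} (hS : IsSylowIn q S M) (hBS : B ≤ S) :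
    ∀ x ∈ S, x ^ q = 1 ↔ x ∈ B := by
  obtain ⟨-, hb, -⟩ := h' M q B Y h
  obtain ⟨-, hb2⟩ := hb hS.toSylow
  have hmap : (hS.toSylow : Subgroup M).map M.subtype = S := by
    rw [hS.coe_toSylow]; exact map_subgroupOf_eq_of_le hS.1
  rw [hmap] at hb2
  exact (hb2 hBS).1

theorem thmX (h : Exc M p A A₀) (hG : IsMinSimpleOddOrder G) (hU : UT G) (hPL : PL1 G)
    (h' : ExcThm' G) {q : ℕ} [hq : Fact q.Prime] (hqσ : q ∉ sigma M) (hqp : q ≠ p)
    {Q : Subgroup G} (hQ : IsPGroup q Q) (hQM : Q ≤ M) (hAQ : A ≤ normalizer (Q : Set G))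
    (hne : ¬ A ≤ centralizer (Q : Set G)) :
    ¬ A ≤ centralizer (Wq M q : Set G) ∧ ∃ Y : Subgroup G, Y ≤ Wq M q ∧ Nat.card Y = q ∧
      M ≤ normalizer (Y : Set G) ∧
      ∀ x ∈ Wq M q, x ∈ centralizer (Wq M q : Set G) → x ^ q = 1 → x ∈ Y := by
  have hAW : ¬ A ≤ centralizer (Wq M q : Set G) := by
    intro hc
    apply hne
    have h1 : ⁅⁅Q, A⁆, A⁆ ≤ ⁅Wq M q, A⁆ :=
      commutator_mono (comm_le_Wq h hG hU hPL h' hqσ hqp hQ hQM hAQ) le_rfl
    rw [commutator_eq_bot_iff_le_centralizer.2 (le_centralizer_iff.1 hc),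
      Helper22.commutator_commutator_eq A Q h.pg (not_dvd_of_pg hp.out hq.out hqp.symm hQ) hAQ,
      le_bot_iff, commutator_eq_bot_iff_le_centralizer] at h1
    exact le_centralizer_iff.1 h1
  refine ⟨hAW, ?_⟩
  have hW1 : Wq M q ≠ ⊥ := by
    intro hb
    apply hAW
    rw [hb]
    intro a _
    rw [mem_centralizer_iff]
    intro x hx
    rw [SetLike.mem_coe, mem_bot] at hx
    rw [hx, one_mul, mul_one]
  exact Helper49.BG11.exists_normal_order_q hG hU hPL h.coatom hqσ (Wq_pg M q) (Wq_le M q) (Wq_norm M q)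
    (Wq_cent M q) hW1 (Helper49.BG11.sc_ne_bot hG hU h.coatom)

theorem invQ_cj {A Q : Subgroup G} {q : ℕ} (h : Helper23.InvQ A q Q) {n : G}
    (hn : n ∈ normalizer (A : Set G)) : Helper23.InvQ A q (cj n Q) := by
  refine ⟨h.1.map _, ?_⟩
  rw [normalizer_map_conj]
  calc A = cj n A := (map_conj_eq_self_of_mem_normalizer hn).symm
    _ ≤ _ := cj_mono n h.2

theorem maxInvQ_cj {A Q : Subgroup G} {q : ℕ} (h : Helper23.MaxInvQ A q Q) {n : G}
    (hn : n ∈ normalizer (A : Set G)) : Helper23.MaxInvQ A q (cj n Q) := by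
  refine ⟨invQ_cj h.1 hn, ?_⟩
  intro R hR hle
  have h1 : Q ≤ cj n⁻¹ R := by
    have := cj_mono n⁻¹ hle
    rwa [cj_inv_cj] at this
  have h2 := h.2 _ (invQ_cj hR (inv_mem hn)) h1
  rw [← h2, cj_cj_inv]

theorem eq_bot_or_eq_of_card_prime {q : ℕ} (hq : q.Prime) {K Y : Subgroup G} (hY : Nat.card Y = q)
    (hKY : K ≤ Y) : K = ⊥ ∨ K = Y := by
  have hd : Nat.card K ∣ q := hY ▸ card_dvd_of_le hKY
  rcases (Nat.dvd_prime hq).1 hd with h | h
  · exact Or.inl (card_eq_one.1 h)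
  · exact Or.inr (eq_of_le_of_card_ge hKY (by rw [h, hY]))


/-! ### the main contradiction -/

theorem main_false (h : Exc M p A A₀) (hG : IsMinSimpleOddOrder G) (hU : UT G) (hPL : PL1 G)
    (h14 : H1414 G) (h' : ExcThm' G) {q : ℕ} [hq : Fact q.Prime] (hqσ : q ∉ sigma M) (hqp : q ≠ p)
    {Q : Subgroup G} (hQ : IsPGroup q Q) (hQM : Q ≤ M) (hAQ : A ≤ normalizer (Q : Set G))
    (hne : ¬ A ≤ centralizer (Q : Set G)) : False := by
  have hpq : p ≠ q := hqp.symm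
  obtain ⟨hAW, Y, hYW, hYc, hMY, hYΩ⟩ := thmX h hG hU hPL h' hqσ hqp hQ hQM hAQ hne
  obtain ⟨W, hWdef⟩ : ∃ W, W = Wq M q := ⟨_, rfl⟩
  rw [← hWdef] at hAW hYW hYΩ
  have hWM : W ≤ M := hWdef ▸ Wq_le M q
  have hWpg : IsPGroup q W := hWdef ▸ Wq_pg M q
  have hMW : M ≤ normalizer (W : Set G) := hWdef ▸ Wq_norm M q
  have hYM : Y ≤ M := hYW.trans hWM
  have hYpg : IsPGroup q Y := hWpg.to_le hYW
  have hY1 : Y ≠ ⊥ := ne_bot_of_card_prime hq.out hYc
  obtain ⟨hNY, hnid, B₀, hE₀⟩ := exc_of_normal hG hU h.coatom hqσ hYc hYM hMY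
  have hrp : PRankLE p 2 M := by
    by_contra hr
    exact h.notSigma (alpha_subset_sigma hG hU h.coatom ⟨hp.out, hr⟩)
  have hrq : PRankLE q 2 M := by
    by_contra hr
    exact hqσ (alpha_subset_sigma hG hU h.coatom ⟨hq.out, hr⟩)
  obtain ⟨S, hS, hAS⟩ := Helper68.BG11P7s.exists_inv_sylow_of_normal hG hpq h.coatom.1 hrp hrq h.pg h.AM hWpg hWM
    hMW hAW
  have hSab : S ≤ centralizer (S : Set G) := abelian_of_exc hE₀ h' hS.2.1 hS.1
  have hWS : W ≤ S := by
    obtain ⟨n, hn, hle⟩ := hS.exists_conj_le hWM hWpg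
    rwa [map_conj_eq_self_of_mem_normalizer (hMW hn)] at hle
  -- `B = Ω₁(S)`
  obtain ⟨B, hE, hBS⟩ : ∃ B, Exc M q B Y ∧ B ≤ S := by
    obtain ⟨n, hn, hle⟩ := hS.exists_conj_le hE₀.AM hE₀.pg
    have he2 := (hE₀.e2 hG hU).cj n
    refine ⟨cj n B₀, ⟨h.coatom, hqσ, hle.trans hS.1, he2.elem, he2.card, ?_, hYc, hNY⟩, hle⟩
    calc Y = cj n Y := (map_conj_eq_self_of_mem_normalizer (hMY hn)).symm
      _ ≤ cj n B₀ := cj_mono n hE₀.A₀A
  have hΩS := omega_of_exc hE h' hS hBS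
  have hWab : W ≤ centralizer (W : Set G) :=
    (hWS.trans hSab).trans (centralizer_le (by exact_mod_cast hWS))
  have hWΩ : ∀ x ∈ W, x ^ q = 1 → x ∈ Y := fun x hx hxq => hYΩ x hx (hWab hx) hxq
  have hSA : ⁅S, A⁆ ≤ W := hWdef ▸ comm_le_Wq h hG hU hPL h' hqσ hqp hS.2.1 hS.1 hAS
  have hNSB := normalizer_le_normalizer_omega hBS hΩS
  have hAB : A ≤ normalizer (B : Set G) := hAS.trans hNSB
  have hBA : ⁅B, A⁆ ≤ Y := by
    intro x hx
    exact hWΩ x (hSA (commutator_mono hBS le_rfl hx))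
      (hE.elem.2 x (le_normalizer_iff_commutator_le_left.1 hAB hx))
  have hpB : ¬ p ∣ Nat.card B := not_dvd_of_pg hp.out hq.out hpq hE.pg
  have hB₁ : B ⊓ centralizer (A : Set G) ≠ ⊥ := by
    intro hb
    have h1 := Helper22.commutator_sup_centralizer A B h.pg hpB hAB
    rw [hb, sup_bot_eq] at h1
    have h2 := card_le_of_le (h1 ▸ hBA : B ≤ Y)
    rw [hE.card, hYc] at h2
    have := hq.out.one_lt
    nlinarith
  have hAY : ¬ A ≤ centralizer (Y : Set G) := fun hc =>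
    hAW (Helper96.BG11farm.cent_of_cent_omega hpq hWpg hWab h.pg (h.AM.trans hMW)
      (fun x hx hxq => (le_centralizer_iff.1 hc) (hWΩ x hx hxq)))
  have hYA : ⁅Y, A⁆ = Y := by
    rcases eq_bot_or_eq_of_card_prime hq.out hYc
      (le_normalizer_iff_commutator_le_left.1 (h.AM.trans hMY)) with h1 | h1
    · exact absurd (le_centralizer_iff.1 (commutator_eq_bot_iff_le_centralizer.1 h1)) hAY
    · exact h1
  have key15 : ∀ g ∈ normalizer (A : Set G), cj g Y ≤ M → g ∈ M := by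
    intro g hg hle
    have hA1 : cj g A = A := map_conj_eq_self_of_mem_normalizer hg
    have h1 : A ≤ normalizer (cj g Y : Set G) := by
      rw [normalizer_map_conj]
      calc A = cj g A := hA1.symm
        _ ≤ _ := cj_mono g (h.AM.trans hMY)
    have h2 : ⁅cj g Y, A⁆ ≤ W := hWdef ▸ comm_le_Wq h hG hU hPL h' hqσ hqp (hYpg.map _) hle h1
    have h3 : ⁅cj g Y, A⁆ = cj g Y := by
      have h0 : cj g ⁅Y, A⁆ = ⁅cj g Y, cj g A⁆ := map_commutator Y A (MulAut.conj g).toMonoidHom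
      rw [hYA, hA1] at h0
      exact h0.symm
    have h4 : cj g Y ≤ Y := by
      intro x hx
      refine hWΩ x (h2 (h3.symm ▸ hx)) ?_
      have h5 := Helper72.pow_eq_one_of_mem hx
      rwa [card_map_conj, hYc] at h5
    have h5 : cj g Y = Y := cj_eq_of_le_of_card h4 le_rfl
    exact hNY (mem_normalizer_of_map_conj_eq h5)
  obtain ⟨A₂, hA₂A, hA₂c, hA₂Y⟩ := Helper96.BG11farm.exists_cent_order_p hpq h.elem h.card hYc (h.AM.trans hMY)
  have hA₂pg : IsPGroup p A₂ := h.pg.to_le hA₂A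
  have hA₂W : A₂ ≤ centralizer (W : Set G) :=
    Helper96.BG11farm.cent_of_cent_omega hpq hWpg hWab hA₂pg ((hA₂A.trans h.AM).trans hMW)
      (fun x hx hxq => le_centralizer_iff.1 hA₂Y (hWΩ x hx hxq))
  have hpS : ¬ p ∣ Nat.card S := not_dvd_of_pg hp.out hq.out hpq hS.2.1
  have hSA₂ : S ≤ centralizer (A₂ : Set G) := by
    rw [← Helper22.commutator_sup_centralizer A S h.pg hpS hAS]
    exact sup_le (hSA.trans (le_centralizer_iff.1 hA₂W))
      (inf_le_right.trans (centralizer_le (by exact_mod_cast hA₂A)))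
  -- the maximal `A`-invariant `q`-subgroup
  obtain ⟨Qs, hQs, hSQs⟩ := Helper23.exists_maxInvQ_ge (A := A) (q := q) (U := S) ⟨hS.2.1, hAS⟩
  obtain ⟨n, hnA, hnM⟩ := exists_normA h h'
  have he2 := h.e2 hG hU
  have hT := he2.trans hG hPL
  have hNtop : normalizer (A : Set G) ≠ ⊤ := MS_normalizer_ne_top hG he2.ne_bot hT.2.1
  obtain ⟨x, hx, hx1⟩ : ∃ x ∈ B ⊓ centralizer (A : Set G), x ≠ 1 := by
    by_contra hcon
    push Not at hcon
    exact hB₁ ((eq_bot_iff_forall _).2 hcon)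
  have hxN : x ∈ normalizer (A : Set G) := centralizer_le_normalizer _ hx.2
  have hxQ : x ∈ Qs := hSQs (hBS hx.1)
  have hn1 : normalizer (A : Set G) ⊓ Qs ≠ ⊥ := by
    intro hb
    exact hx1 ((eq_bot_iff_forall _).1 hb x ⟨hxN, hxQ⟩)
  have hn2 : normalizer (A : Set G) ⊓ cj n Qs ≠ ⊥ := by
    intro hb
    have := (eq_bot_iff_forall _).1 hb (n * x * n⁻¹)
      ⟨Subgroup.mul_mem _ (Subgroup.mul_mem _ hnA hxN) (Subgroup.inv_mem _ hnA),
        conj_mem_map_conj hxQ⟩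
    apply hx1
    simpa using this
  obtain ⟨k, hk, hkQ⟩ := Helper23.TransHyp.conj_of_common_overgroup hG hT q
    (not_dvd_of_pg hq.out hp.out hqp h.pg) Qs (cj n Qs) hQs (maxInvQ_cj hQs hnA) _ hNtop
    le_normalizer hn1 hn2
  have hkC : k ∈ centralizer (A : Set G) := Helper23.piCoreOf_le _ _ hk
  have hkM : k ∈ M := h.cent_le hkC
  have hgA : k⁻¹ * n ∈ normalizer (A : Set G) :=
    mul_mem (inv_mem (centralizer_le_normalizer _ hkC)) hnA
  have hgM : k⁻¹ * n ∉ M := by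
    intro hh
    apply hnM
    have := mul_mem hkM hh
    rwa [mul_inv_cancel_left] at this
  have hgQ : cj (k⁻¹ * n) Qs = Qs := by
    have hkQ' : cj k Qs = cj n Qs := hkQ
    rw [← cj_cj, ← hkQ', cj_inv_cj]
  have hQsM : ¬ Qs ≤ M := fun hle => hgM (key15 _ hgA (by
    calc cj (k⁻¹ * n) Y ≤ cj (k⁻¹ * n) Qs := cj_mono _ (hYW.trans (hWS.trans hSQs))
      _ = Qs := hgQ
      _ ≤ M := hle))
  have hSlt : S < Qs := lt_of_le_of_ne hSQs (fun he => hQsM (he ▸ hS.1))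
  obtain ⟨t, htQ, htN, htS⟩ := exists_mem_normalizer_not_mem hQs.1.1.isNilpotent hSlt
  obtain ⟨T, hTdef⟩ : ∃ T, T = Qs ⊓ normalizer (S : Set G) := ⟨_, rfl⟩
  have hTpg : IsPGroup q T := hTdef ▸ hQs.1.1.to_le inf_le_left
  have hST : S ≤ T := hTdef ▸ le_inf hSQs le_normalizer
  have hAT : A ≤ normalizer (T : Set G) := hTdef ▸ Helper22.le_normalizer_inf_normalizer hQs.1.2 hAS
  have htT : t ∈ T := hTdef ▸ ⟨htQ, htN⟩
  have hTM : T ⊓ M ≤ S :=
    (hS.eq_of_le (R := T ⊓ M) inf_le_right (hTpg.to_le inf_le_left) (le_inf hST hS.1)).ge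
  have htM : t ∉ M := fun hh => htS (hTM ⟨htT, hh⟩)
  have hTB : T ≤ normalizer (B : Set G) := (hTdef ▸ inf_le_right : T ≤ normalizer (S : Set G)).trans hNSB
  have hYT : Y ≤ T := (hYW.trans hWS).trans hST
  -- `A₂` centralizes `T`
  have h3s : ⁅⁅T, A₂⁆, Y⁆ = ⊥ := by
    apply commutator_commutator_eq_bot_of_rotate
    · rw [commutator_eq_bot_iff_le_centralizer.2 hA₂Y, commutator_bot_left]
    · rw [commutator_eq_bot_iff_le_centralizer]
      calc ⁅Y, T⁆ ≤ ⁅B, T⁆ := commutator_mono hE.A₀A le_rfl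
        _ ≤ B := le_normalizer_iff_commutator_le_left.1 hTB
        _ ≤ _ := hBS.trans hSA₂
  have hA₂T : A₂ ≤ normalizer (T : Set G) := hA₂A.trans hAT
  have hTA₂ : ⁅T, A₂⁆ ≤ S := by
    refine le_trans (le_inf (le_normalizer_iff_commutator_le_left.1 hA₂T) ?_) hTM
    exact ((commutator_eq_bot_iff_le_centralizer.1 h3s).trans (centralizer_le_normalizer _)).trans hNY
  have hTC : T ≤ centralizer (A₂ : Set G) := by
    rw [← commutator_eq_bot_iff_le_centralizer,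
      ← Helper22.commutator_commutator_eq A₂ T hA₂pg (not_dvd_of_pg hp.out hq.out hpq hTpg) hA₂T,
      commutator_eq_bot_iff_le_centralizer]
    exact hTA₂.trans hSA₂
  -- the maximal subgroup `L`
  have hA₂1 : A₂ ≠ ⊥ := ne_bot_of_card_prime hp.out hA₂c
  have hA₂top : A₂ ≠ ⊤ := ne_top_of_le_ne_top hT.2.1 hA₂A
  obtain ⟨L, hL, hNL⟩ := exists_coatom_ge (MS_normalizer_ne_top hG hA₂1 hA₂top)
  have hCL : centralizer (A₂ : Set G) ≤ L := (centralizer_le_normalizer _).trans hNL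
  have hAL : A ≤ L := (le_centralizer_of_comm h.elem.1 hA₂A).trans hCL
  have hTL : T ≤ L := hTC.trans hCL
  have hTnab : ¬ T ≤ centralizer (T : Set G) := fun hc =>
    htM (hNY (centralizer_le_normalizer _ (centralizer_le (by exact_mod_cast hYT) (hc htT))))
  have hAT' : ¬ A ≤ centralizer (T : Set G) := fun hc =>
    hAY (hc.trans (centralizer_le (by exact_mod_cast hYT)))
  by_cases hpL : p ∈ sigma L
  · exact false_of_sigma hG hU h14 hpq hL hpL h.pg hAL hYpg (hYT.trans hTL) hY1 hYA hnid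
  · have hEL : Exc L p A A₂ := ⟨hL, hpL, hAL, h.elem, h.card, hA₂A, hA₂c, hNL⟩
    have hqL : q ∉ sigma L := by
      intro hqs
      have h1 : T ≤ sigmaCore L := le_sc hG hU hL hqs hTL hTpg
      obtain ⟨-, -, hd, -⟩ := h' L p A A₂ hEL
      apply hB₁
      rw [eq_bot_iff, ← hd]
      exact le_inf (inf_le_left.trans (hBS.trans (hST.trans h1))) inf_le_right
    obtain ⟨-, Y', hY'W, hY'c, hLY', -⟩ := thmX hEL hG hU hPL h' hqL hqp hTpg hTL hAT hAT'
    obtain ⟨-, -, B', hE'⟩ := exc_of_normal hG hU hL hqL hY'c (hY'W.trans (Wq_le L q)) hLY'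
    exact hTnab (abelian_of_exc hE' h' hTpg hTL)

/-- **BG Theorem 11.7**: `M_σ A` is normal in `M`. -/
theorem excNormal (hG : IsMinSimpleOddOrder G) (hU : UT G) (hPL : PL1 G) (h14 : H1414 G)
    (h37 : H3769.{u}) (h' : ExcThm' G) : ExcNormal G := by
  intro M p _ A A₀ h
  have key : ∀ (q : ℕ) [Fact q.Prime], q ≠ p → ∀ Q : Subgroup G, IsPGroup q Q → Q ≤ M →
      A ≤ normalizer (Q : Set G) → ⁅Q, A⁆ ≤ sigmaCore M := by
    intro q _ hqp Q hQ hQM hAQ
    by_cases hqσ : q ∈ sigma M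
    · exact (le_normalizer_iff_commutator_le_left.1 hAQ).trans (le_sc hG hU h.coatom hqσ hQM hQ)
    · by_contra hcon
      apply main_false h hG hU hPL h14 h' hqσ hqp hQ hQM hAQ
      intro hc
      apply hcon
      rw [commutator_eq_bot_iff_le_centralizer.2 (le_centralizer_iff.1 hc)]
      exact bot_le
  obtain ⟨P, hP, hAP⟩ := exists_isSylowIn_ge h.AM h.pg
  obtain ⟨K, hKM, hMK, hKc, hfr⟩ := exists_frattini_of_pLength_one p (hPL p M h.coatom.1) hP
  have hpp : p.Prime := Fact.out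
  have hpK : ¬ p ∣ Nat.card K := fun hd => hpp.one_lt.ne' (Nat.Coprime.eq_one_of_dvd hKc.symm hd)
  have hK : K ≤ Helper72.trivMod (sigmaCore M) A := by
    apply Helper22.le_of_forall_isSylowIn_le
    intro q hq
    haveI : Fact q.Prime := ⟨hq⟩
    obtain ⟨Q, hQ, hAQ⟩ := Helper22.exists_invariant_isSylowIn A K h.pg hpK (h.AM.trans hMK) q
    refine ⟨Q, hQ, ?_⟩
    by_cases hqp : q = p
    · subst hqp
      have hQ1 : Q = ⊥ := by
        rcases hQ.isPGroup.card_eq_or_dvd with h1 | h1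
        · exact card_eq_one.1 h1
        · exact absurd (h1.trans (card_dvd_of_le hQ.le)) hpK
      rw [hQ1]
      exact bot_le
    · intro x hx
      exact ⟨sc_norm M (hKM (hQ.le hx)), fun a ha =>
        key q hqp Q hQ.isPGroup (hQ.le.trans hKM) hAQ (commutator_mem_commutator hx ha)⟩
  have hΩ : normalizer (P : Set G) ≤ normalizer (A : Set G) := by
    obtain ⟨-, hb, -⟩ := h' M p A A₀ h
    obtain ⟨-, hb2⟩ := hb hP.toSylow
    have hmap : (hP.toSylow : Subgroup M).map M.subtype = P := by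
      rw [hP.coe_toSylow]; exact map_subgroupOf_eq_of_le hP.1
    rw [hmap] at hb2
    exact normalizer_le_normalizer_omega hAP (hb2 hAP).1
  have hKN : K ≤ normalizer ((sigmaCore M ⊔ A : Subgroup G) : Set G) := by
    rw [le_normalizer_iff]
    intro k hk x hx
    have h1 : cj k (sigmaCore M ⊔ A) ≤ sigmaCore M ⊔ A := by
      have h0 : cj k (sigmaCore M ⊔ A) = cj k (sigmaCore M) ⊔ cj k A := Subgroup.map_sup _ _ _
      rw [h0]
      apply sup_le
      · have h00 : cj k (sigmaCore M) = sigmaCore M :=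
          map_conj_eq_self_of_mem_normalizer (sc_norm M (hKM hk))
        rw [h00]
        exact le_sup_left
      · rintro _ ⟨a, ha, rfl⟩
        have h2 : ⁅k, a⁆ ∈ sigmaCore M := (hK hk).2 a ha
        have h3 : (MulAut.conj k).toMonoidHom a = ⁅k, a⁆ * a := by
          simp [commutatorElement_def]
        rw [h3]
        exact mul_mem (mem_sup_left h2) (mem_sup_right ha)
    exact h1 (conj_mem_map_conj hx)
  intro n hn
  obtain ⟨k, hk, m, hm, rfl⟩ := hfr n hn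
  refine mul_mem (hKN hk) ?_
  exact normalizer_inf_normalizer_le_normalizer_sup _ _ (mem_inf.2 ⟨sc_norm M hm.1, hΩ hm.2⟩)

end Cfsg.Agent.Lib.Helper25.BG11
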