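import Cfsg.Prelude.Def_OddOrderChar
import Cfsg.Prelude.Def_OddOrderLocal
import Cfsg.Agent.Lib.Helper15.Ind
import Cfsg.Agent.Lib.Helper74.CharBasic

/-!
Basic facts on the functions `(1 - φ)(1 - ψ)` on `W = W₁ ⊔ W₂` and on cyclic TI families.
-/

set_option autoImplicit false

namespace Cfsg.Agent.Lib.Helper25

open Cfsg
open scoped ComplexConjugate

variable {G : Type*} [Group G] {W₁ W₂ : Subgroup G}

/-- The function `(1 - φ)(1 - ψ)` on `W₁ ⊔ W₂`. -/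
def alphaFun (φ ψ : ↥(W₁ ⊔ W₂) →* ℂˣ) : ↥(W₁ ⊔ W₂) → ℂ :=
  fun w => 1 - (φ w : ℂ) - (ψ w : ℂ) + (φ w : ℂ) * (ψ w : ℂ)

theorem alphaFun_apply (φ ψ : ↥(W₁ ⊔ W₂) →* ℂˣ) (w : ↥(W₁ ⊔ W₂)) :
    alphaFun φ ψ w = 1 - (φ w : ℂ) - (ψ w : ℂ) + (φ w : ℂ) * (ψ w : ℂ) := rfl

theorem alphaFun_eq_zero (φ ψ : ↥(W₁ ⊔ W₂) →* ℂˣ)
    (hφ₂ : ∀ w : ↥(W₁ ⊔ W₂), (w : G) ∈ W₂ → φ w = 1)
    (hψ₁ : ∀ w : ↥(W₁ ⊔ W₂), (w : G) ∈ W₁ → ψ w = 1)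
    (w : ↥(W₁ ⊔ W₂)) (hw : (w : G) ∈ W₁ ∨ (w : G) ∈ W₂) : alphaFun φ ψ w = 0 := by
  rw [alphaFun_apply]
  rcases hw with hw | hw
  · rw [hψ₁ w hw]; simp
  · rw [hφ₂ w hw]; simp

/-- The function on `W` attached to a linear character. -/
def linFun {X : Type*} [Group X] (ω : X →* ℂˣ) : X → ℂ := fun w => (ω w : ℂ)

theorem linFun_injective {X : Type*} [Group X] : Function.Injective (linFun (X := X)) := by
  intro ω ω' h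
  ext w
  exact congrFun h w

theorem linFun_one {X : Type*} [Group X] : linFun (1 : X →* ℂˣ) = fun _ => 1 := by
  funext w; simp [linFun]

theorem alphaFun_eq (φ ψ : ↥(W₁ ⊔ W₂) →* ℂˣ) :
    alphaFun φ ψ = linFun 1 - linFun φ - linFun ψ + linFun (φ * ψ) := by
  funext w
  simp [alphaFun, linFun]

theorem classInner_linFun {X : Type*} [Group X] [Fintype X] [DecidableEq (X →* ℂˣ)]
    (ω ω' : X →* ℂˣ) : classInner (linFun ω) (linFun ω') = if ω = ω' then 1 else 0 := by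
  classical
  have h := Cfsg.Agent.Lib.Helper74.classInner_irr
    (⟨linFun ω, Cfsg.Agent.Lib.Helper74.isIrrCharacter_of_hom ω⟩ : IrrCharacter X)
    (⟨linFun ω', Cfsg.Agent.Lib.Helper74.isIrrCharacter_of_hom ω'⟩ : IrrCharacter X)
  simp only at h
  rw [h]
  by_cases hω : ω = ω'
  · subst hω; simp
  · rw [if_neg hω, if_neg]
    intro h'
    exact hω (linFun_injective (congrArg Subtype.val h'))

section family

variable [Fintype G]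

/-- If `θ` is a class function of `G` vanishing on `W \ (W₁ ∪ W₂)`, it is orthogonal to the function
induced from `(1 - φ)(1 - ψ)`. -/
theorem classInner_indFun_alphaFun_eq_zero (θ : G → ℂ) (hθ : IsClassFunction G θ)
    (hθV : ∀ w : ↥(W₁ ⊔ W₂), (w : G) ∉ W₁ → (w : G) ∉ W₂ → θ w = 0)
    (φ ψ : ↥(W₁ ⊔ W₂) →* ℂˣ)
    (hφ₂ : ∀ w : ↥(W₁ ⊔ W₂), (w : G) ∈ W₂ → φ w = 1)
    (hψ₁ : ∀ w : ↥(W₁ ⊔ W₂), (w : G) ∈ W₁ → ψ w = 1) :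
    classInner θ (indFun (W₁ ⊔ W₂) (alphaFun φ ψ)) = 0 := by
  classical
  let _ : Fintype ↥(W₁ ⊔ W₂) := Fintype.ofFinite _
  rw [Cfsg.Agent.Lib.Helper15.classInner_indFun_right _ _ _ hθ]
  unfold classInner
  rw [Finset.sum_eq_zero, mul_zero]
  intro w _
  by_cases hw : (w : G) ∈ W₁ ∨ (w : G) ∈ W₂
  · rw [alphaFun_eq_zero φ ψ hφ₂ hψ₁ w hw]; simp
  · rw [not_or] at hw
    simp only [hθV w hw.1 hw.2, zero_mul]

/-- For a cyclic TI family, the inner product of any function with the function induced from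
`(1 - φ)(1 - ψ)`. -/
theorem classInner_induced_family (χ : (↥(W₁ ⊔ W₂) →* ℂˣ) → (G → ℂ))
    (hχ : IsCyclicTIFamily W₁ W₂ χ) (θ : G → ℂ) (φ ψ : ↥(W₁ ⊔ W₂) →* ℂˣ) (hφ : φ ≠ 1) (hψ : ψ ≠ 1)
    (hφ₂ : ∀ w : ↥(W₁ ⊔ W₂), (w : G) ∈ W₂ → φ w = 1)
    (hψ₁ : ∀ w : ↥(W₁ ⊔ W₂), (w : G) ∈ W₁ → ψ w = 1) :
    classInner θ (indFun (W₁ ⊔ W₂) (alphaFun φ ψ)) =
      classInner θ (χ 1) - classInner θ (χ φ) - classInner θ (χ ψ) + classInner θ (χ (φ * ψ)) := by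
  have h := hχ.induced_eq φ ψ hφ hψ hφ₂ hψ₁
  have h' : indFun (W₁ ⊔ W₂) (alphaFun φ ψ) = χ 1 - χ φ - χ ψ + χ (φ * ψ) := by
    unfold alphaFun
    rw [h, hχ.map_one]
    rfl
  rw [h', Cfsg.Agent.Lib.Helper15.classInner_add_right, Cfsg.Agent.Lib.Helper15.classInner_sub_right,
    Cfsg.Agent.Lib.Helper15.classInner_sub_right]

/-- The coefficients `a(ω) = ⟨θ, χ ω⟩` of a class function vanishing on `W \ (W₁ ∪ W₂)` satisfy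
`a(φψ) = a(φ) + a(ψ) - a(1)`. -/
theorem coeff_mul (χ : (↥(W₁ ⊔ W₂) →* ℂˣ) → (G → ℂ))
    (hχ : IsCyclicTIFamily W₁ W₂ χ) (θ : G → ℂ) (hθ : IsClassFunction G θ)
    (hθV : ∀ w : ↥(W₁ ⊔ W₂), (w : G) ∉ W₁ → (w : G) ∉ W₂ → θ w = 0)
    (φ ψ : ↥(W₁ ⊔ W₂) →* ℂˣ)
    (hφ₂ : ∀ w : ↥(W₁ ⊔ W₂), (w : G) ∈ W₂ → φ w = 1)
    (hψ₁ : ∀ w : ↥(W₁ ⊔ W₂), (w : G) ∈ W₁ → ψ w = 1) :
    classInner θ (χ (φ * ψ)) =
      classInner θ (χ φ) + classInner θ (χ ψ) - classInner θ (χ 1) := by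
  by_cases hφ : φ = 1
  · subst hφ
    have : (1 : ↥(W₁ ⊔ W₂) →* ℂˣ) * ψ = ψ := by ext; simp
    rw [this]; ring
  by_cases hψ : ψ = 1
  · subst hψ
    have : φ * (1 : ↥(W₁ ⊔ W₂) →* ℂˣ) = φ := by ext; simp
    rw [this]; ring
  have h1 := classInner_indFun_alphaFun_eq_zero θ hθ hθV φ ψ hφ₂ hψ₁
  rw [classInner_induced_family χ hχ θ φ ψ hφ hψ hφ₂ hψ₁] at h1
  linear_combination h1

end family

end Cfsg.Agent.Lib.Helper25
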